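import Groth.Agent.DeRhamSh.K576.WeylGrow
import Groth.Agent.Lefpen.H708.TrdegG

/-!
# Filtrations of finitely generated algebras

`exists_grow`: a finitely generated algebra `A` over a field, with finitely many elements `x i` and derivations
`D i`, has an exhaustive increasing filtration by finite dimensional subspaces `F` with `x i F_j, D i F_j ≤ F_(j+1)`
and `dim F_j ≤ C (j + 1) ^ s`, `s` the number of variables in a Noether normalization.
-/

set_option autoImplicit false

universe u v

namespace K576.AlgGrow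

open Module Weyl

variable {k : Type u} [Field k] {A : Type v} [CommRing A] [Algebra k A]

theorem finrank_mul_le (M N : Submodule k A) [Module.Finite k M] [Module.Finite k N] :
    finrank k ↥(M * N) ≤ finrank k M * finrank k N := by
  have h1 : M * N = LinearMap.range (TensorProduct.lift
      ((LinearMap.mul k A).domRestrict₁₂ M N)) := by
    apply le_antisymm
    · rw [Submodule.mul_le]
      intro m hm n hn
      exact ⟨(⟨m, hm⟩ : M) ⊗ₜ[k] (⟨n, hn⟩ : N), rfl⟩
    · rintro _ ⟨t, rfl⟩
      induction t with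
      | zero => rw [map_zero]; exact zero_mem _
      | tmul m n => exact Submodule.mul_mem_mul m.2 n.2
      | add a b ha hb => rw [map_add]; exact add_mem ha hb
  rw [h1, ← Module.finrank_tensorProduct (R := k) (S := k) (M := M) (M' := N)]
  exact LinearMap.finrank_range_le _

instance finite_mul (M N : Submodule k A) [Module.Finite k M] [Module.Finite k N] :
    Module.Finite k ↥(M * N) :=
  Module.Finite.iff_fg.mpr ((Module.Finite.iff_fg.mp ‹Module.Finite k M›).mul (Module.Finite.iff_fg.mp ‹_›))

instance finite_pow (M : Submodule k A) [Module.Finite k M] (j : ℕ) : Module.Finite k ↥(M ^ j) :=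
  Module.Finite.iff_fg.mpr ((Module.Finite.iff_fg.mp ‹Module.Finite k M›).pow j)

theorem pow_mono {V : Submodule k A} (h1 : (1 : A) ∈ V) : Monotone (fun j => V ^ j) := by
  apply monotone_nat_of_le_succ
  intro j
  rw [pow_succ]
  intro v hv
  rw [← mul_one v]
  exact Submodule.mul_mem_mul hv h1

/-- A derivation raises the degree by a bounded amount. -/
theorem der_pow_le {V : Submodule k A} (h1 : (1 : A) ∈ V) (m : ℕ) (D : Derivation k A A)
    (hD : ∀ v ∈ V, D v ∈ V ^ m) (j : ℕ) : ∀ v ∈ V ^ j, D v ∈ V ^ (j + m) := by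
  induction j with
  | zero =>
    intro v hv
    rw [pow_zero, Submodule.one_eq_span, Submodule.mem_span_singleton] at hv
    obtain ⟨c, rfl⟩ := hv
    rw [Derivation.map_smul, Derivation.map_one_eq_zero, smul_zero]
    exact zero_mem _
  | succ j ih =>
    intro v hv
    rw [pow_succ] at hv
    induction hv using Submodule.mul_induction_on' with
    | mem_mul_mem a ha b hb =>
      rw [Derivation.leibniz, smul_eq_mul, smul_eq_mul]
      refine add_mem ?_ ?_
      · have := Submodule.mul_mem_mul ha (hD b hb)
        rw [← pow_add] at this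
        exact pow_mono h1 (by omega) this
      · have := Submodule.mul_mem_mul hb (ih a ha)
        rw [← pow_succ'] at this
        exact pow_mono h1 (by omega) this
    | add x _ y _ hx hy => rw [map_add]; exact add_mem hx hy

theorem exists_mem_pow {V : Submodule k A} (h1 : (1 : A) ∈ V) (hV : Algebra.adjoin k (V : Set A) = ⊤) (a : A) :
    ∃ m, a ∈ V ^ m := by
  have ha : a ∈ Algebra.adjoin k (V : Set A) := by rw [hV]; trivial
  induction ha using Algebra.adjoin_induction with
  | mem x hx => exact ⟨1, by rw [pow_one]; exact hx⟩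
  | algebraMap r =>
    refine ⟨0, ?_⟩
    rw [pow_zero]
    exact Submodule.algebraMap_mem r
  | add x y _ _ hx hy =>
    obtain ⟨m, hm⟩ := hx
    obtain ⟨n, hn⟩ := hy
    exact ⟨max m n, add_mem (pow_mono h1 (le_max_left _ _) hm) (pow_mono h1 (le_max_right _ _) hn)⟩
  | mul x y _ _ hx hy =>
    obtain ⟨m, hm⟩ := hx
    obtain ⟨n, hn⟩ := hy
    refine ⟨m + n, ?_⟩
    rw [pow_add]
    exact Submodule.mul_mem_mul hm hn

/-- A finite dimensional subspace lies in a member of a directed exhaustive family. -/
theorem exists_le_of_fg {E : Type*} [AddCommGroup E] [Module k E] {F : ℕ → Submodule k E} (hF : Monotone F)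
    (hex : ∀ v, ∃ j, v ∈ F j) (N : Submodule k E) (hN : N.FG) : ∃ j, N ≤ F j := by
  obtain ⟨S, rfl⟩ := hN
  choose g hg using hex
  refine ⟨S.sup g, Submodule.span_le.mpr (fun v hv => ?_)⟩
  exact hF (Finset.le_sup hv) (hg v)

section poly

variable (s : ℕ)

/-- Polynomials of degree at most `m` in each variable. -/
noncomputable abbrev R (m : ℕ) : Submodule k (MvPolynomial (Fin s) k) :=
  MvPolynomial.restrictDegree (Fin s) k m

theorem R_mul_le (m n : ℕ) : R (k := k) s m * R s n ≤ R s (m + n) := by
  rw [Submodule.mul_le]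
  intro p hp q hq
  rw [MvPolynomial.mem_restrictDegree] at hp hq ⊢
  intro t ht i
  have := MvPolynomial.support_mul p q ht
  obtain ⟨a, ha, b, hb, rfl⟩ := Finset.mem_add.mp this
  exact add_le_add (hp a ha i) (hq b hb i)

theorem R_mono : Monotone (R (k := k) s) := fun m n h p hp => by
  rw [MvPolynomial.mem_restrictDegree] at hp ⊢
  exact fun t ht i => (hp t ht i).trans h

theorem one_mem_R (m : ℕ) : (1 : MvPolynomial (Fin s) k) ∈ R s m := by
  rw [MvPolynomial.mem_restrictDegree]
  intro t ht i
  rw [MvPolynomial.mem_support_iff, MvPolynomial.coeff_one] at ht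
  have : t = 0 := by
    by_contra h
    exact ht (if_neg (Ne.symm h))
  rw [this]; simp

theorem exists_mem_R (p : MvPolynomial (Fin s) k) : ∃ m, p ∈ R s m := by
  refine ⟨p.support.sup (fun t => Finset.univ.sup (fun i => t i)), ?_⟩
  rw [MvPolynomial.mem_restrictDegree]
  intro t ht i
  exact (Finset.le_sup (f := fun i => t i) (Finset.mem_univ i)).trans
    (Finset.le_sup (f := fun t : Fin s →₀ ℕ => Finset.univ.sup (fun i => t i)) ht)

/-- The dimension. -/
theorem finrank_R_le (m : ℕ) : Module.Finite k (R (k := k) s m) ∧ finrank k (R (k := k) s m) ≤ (m + 1) ^ s := by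
  have h0 : R (k := k) s m ≤ Submodule.span k (Set.range (fun e : Fin s → Fin (m + 1) =>
      (MvPolynomial.monomial (Finsupp.equivFunOnFinite.symm (fun i => (e i : ℕ))) (1 : k)))) := by
    intro p hp
    rw [MvPolynomial.mem_restrictDegree] at hp
    rw [p.as_sum]
    refine Submodule.sum_mem _ (fun t ht => ?_)
    have h2 : MvPolynomial.monomial t (p.coeff t) = (p.coeff t) • MvPolynomial.monomial t (1 : k) := by
      rw [MvPolynomial.smul_monomial, smul_eq_mul, mul_one]
    rw [h2]
    refine Submodule.smul_mem _ _ (Submodule.subset_span ⟨fun i => ⟨t i, Nat.lt_succ_of_le (hp t ht i)⟩, ?_⟩)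
    ext i
    simp
  have hfin : Module.Finite k (Submodule.span k (Set.range (fun e : Fin s → Fin (m + 1) =>
      (MvPolynomial.monomial (Finsupp.equivFunOnFinite.symm (fun i => (e i : ℕ))) (1 : k))))) :=
    Module.Finite.span_of_finite k (Set.finite_range _)
  refine ⟨Module.Finite.of_injective (Submodule.inclusion h0) (Submodule.inclusion_injective _), ?_⟩
  refine (Submodule.finrank_mono h0).trans ((finrank_range_le_card _).trans ?_)
  simp

end poly

/-- **Growth of a finitely generated algebra.** -/
theorem exists_bound (s : ℕ) (g : MvPolynomial (Fin s) k →ₐ[k] A) (hg : g.Finite)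
    (V : Submodule k A) [Module.Finite k V] : ∃ C : ℕ, ∀ j, finrank k ↥(V ^ j) ≤ C * (j + 1) ^ s := by
  let P := MvPolynomial (Fin s) k
  -- module generators
  let _ : Algebra P A := g.toRingHom.toAlgebra
  have hfin : Module.Finite P A := hg
  obtain ⟨S, hS⟩ := hfin.fg_top
  classical
  let B : Submodule k A := Submodule.span k (insert 1 (S : Set A))
  have hBfin : Module.Finite k B := Module.Finite.span_of_finite k ((Finset.finite_toSet S).insert 1)
  have h1B : (1 : A) ∈ B := Submodule.subset_span (Set.mem_insert _ _)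
  have hSB : (S : Set A) ⊆ B := fun x hx => Submodule.subset_span (Set.mem_insert_of_mem _ hx)
  let R' : ℕ → Submodule k A := fun m => (R (k := k) s m).map g.toLinearMap
  have hR'mul : ∀ m n, R' m * R' n ≤ R' (m + n) := fun m n => by
    change (R (k := k) s m).map g.toLinearMap * (R (k := k) s n).map g.toLinearMap ≤ _
    rw [← Submodule.map_mul]
    exact Submodule.map_mono (R_mul_le s m n)
  have hR'mono : Monotone R' := fun m n h => Submodule.map_mono (R_mono s h)
  have hex : ∀ a : A, ∃ m, a ∈ R' m * B := by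
    intro a
    have ha : a ∈ Submodule.span P (S : Set A) := by rw [hS]; trivial
    induction ha using Submodule.span_induction with
    | mem x hx =>
      refine ⟨0, ?_⟩
      rw [← one_mul x]
      exact Submodule.mul_mem_mul ⟨1, one_mem_R s 0, map_one g⟩ (hSB hx)
    | zero => exact ⟨0, zero_mem _⟩
    | add x y _ _ hx hy =>
      obtain ⟨m, hm⟩ := hx
      obtain ⟨n, hn⟩ := hy
      exact ⟨max m n, add_mem (mul_le_mul_left (hR'mono (le_max_left _ _)) _ hm)
        (mul_le_mul_left (hR'mono (le_max_right _ _)) _ hn)⟩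
    | smul p x _ hx =>
      obtain ⟨m, hm⟩ := hx
      obtain ⟨n, hn⟩ := exists_mem_R (k := k) s p
      refine ⟨n + m, ?_⟩
      have h2 : p • x = g p * x := rfl
      rw [h2]
      refine mul_le_mul_left (hR'mul n m) _ ?_
      rw [mul_assoc]
      exact Submodule.mul_mem_mul ⟨p, hn, rfl⟩ hm
  have hmonoB : Monotone (fun m => R' m * B) := fun m n h => mul_le_mul_left (hR'mono h) _
  obtain ⟨c, hc⟩ := exists_le_of_fg hmonoB hex (V * B) (Module.Finite.iff_fg.mp (finite_mul V B))
  have hstep : ∀ j, V ^ j * B ≤ R' (c * j) * B := by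
    intro j
    induction j with
    | zero =>
      rw [pow_zero, one_mul, mul_zero]
      intro b hb
      rw [← one_mul b]
      exact Submodule.mul_mem_mul ⟨1, one_mem_R s 0, map_one g⟩ hb
    | succ j ih =>
      calc V ^ (j + 1) * B = V ^ j * (V * B) := by rw [pow_succ, mul_assoc]
        _ ≤ V ^ j * (R' c * B) := mul_le_mul_right hc _
        _ = R' c * (V ^ j * B) := by ring
        _ ≤ R' c * (R' (c * j) * B) := mul_le_mul_right ih _
        _ = (R' c * R' (c * j)) * B := by rw [mul_assoc]
        _ ≤ R' (c + c * j) * B := mul_le_mul_left (hR'mul _ _) _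
        _ = R' (c * (j + 1)) * B := by rw [mul_add, mul_one, add_comm]
  have hR'fin : ∀ m, Module.Finite k (R' m) := fun m => by
    have := (finrank_R_le (k := k) s m).1
    exact Module.Finite.map _ _
  refine ⟨(c + 1) ^ s * finrank k B, fun j => ?_⟩
  have hle : V ^ j ≤ R' (c * j) * B := by
    refine le_trans ?_ (hstep j)
    intro v hv
    rw [← mul_one v]
    exact Submodule.mul_mem_mul hv h1B
  have h3 := hR'fin (c * j)
  have h4 : finrank k (R' (c * j)) ≤ (c * j + 1) ^ s := by
    have := (finrank_R_le (k := k) s (c * j)).1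
    exact (Submodule.finrank_map_le _ _).trans (finrank_R_le (k := k) s (c * j)).2
  calc finrank k ↥(V ^ j) ≤ finrank k ↥(R' (c * j) * B) := Submodule.finrank_mono hle
    _ ≤ finrank k (R' (c * j)) * finrank k B := finrank_mul_le _ _
    _ ≤ (c * j + 1) ^ s * finrank k B := Nat.mul_le_mul_right _ h4
    _ ≤ ((c + 1) * (j + 1)) ^ s * finrank k B :=
        Nat.mul_le_mul_right _ (Nat.pow_le_pow_left (by nlinarith) _)
    _ = (c + 1) ^ s * finrank k B * (j + 1) ^ s := by rw [mul_pow]; ring

/-- **The filtration.** -/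
theorem exists_grow (s : ℕ) (g : MvPolynomial (Fin s) k →ₐ[k] A) (hg : g.Finite) [Algebra.FiniteType k A]
    {ι : Type*} [Finite ι] (x : ι → A) (D : ι → Derivation k A A) :
    ∃ F : ℕ → Submodule k A, Grow s F ∧ (∀ i j, ∀ v ∈ F j, x i * v ∈ F (j + 1)) ∧
      (∀ i j, ∀ v ∈ F j, D i v ∈ F (j + 1)) := by
  obtain ⟨S, hS⟩ := Algebra.FiniteType.out (R := k) (A := A)
  classical
  let V : Submodule k A := Submodule.span k (insert 1 (S : Set A))
  have hVfin : Module.Finite k V := Module.Finite.span_of_finite k ((Finset.finite_toSet S).insert 1)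
  have h1V : (1 : A) ∈ V := Submodule.subset_span (Set.mem_insert _ _)
  have hV : Algebra.adjoin k (V : Set A) = ⊤ := by
    rw [eq_top_iff, ← hS]
    exact Algebra.adjoin_mono (fun x hx => Submodule.subset_span (Set.mem_insert_of_mem _ hx))
  have hex := exists_mem_pow h1V hV
  cases nonempty_fintype ι
  choose mx hmx using fun i => hex (x i)
  have hD : ∀ i, ∃ m, V.map (D i : A →ₗ[k] A) ≤ V ^ m := fun i =>
    exists_le_of_fg (pow_mono h1V) hex _ ((Module.Finite.iff_fg.mp hVfin).map _)
  choose mD hmD using hD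
  let m := (Finset.univ.sup mx ⊔ Finset.univ.sup mD) + 1
  have hx : ∀ i, x i ∈ V ^ m := fun i => pow_mono h1V
    (show mx i ≤ m from ((Finset.le_sup (Finset.mem_univ i)).trans le_sup_left).trans (Nat.le_succ _)) (hmx i)
  have hDm : ∀ i, ∀ v ∈ V, D i v ∈ V ^ m := fun i v hv => pow_mono h1V
    (show mD i ≤ m from ((Finset.le_sup (Finset.mem_univ i)).trans le_sup_right).trans (Nat.le_succ _))
    (hmD i ⟨v, hv, rfl⟩)
  obtain ⟨C, hC⟩ := exists_bound s g hg V
  refine ⟨fun j => V ^ (m * j), ⟨fun i j h => pow_mono h1V (Nat.mul_le_mul_left m h), fun v => ?_,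
    fun j => inferInstance, C * m ^ s, fun j => ?_⟩, fun i j v hv => ?_, fun i j v hv => ?_⟩
  · obtain ⟨l, hl⟩ := hex v
    exact ⟨l, pow_mono h1V (show l ≤ m * l from Nat.le_mul_of_pos_left _ (Nat.succ_pos _)) hl⟩
  · refine (hC _).trans ?_
    calc C * (m * j + 1) ^ s ≤ C * (m * (j + 1)) ^ s :=
        Nat.mul_le_mul_left _ (Nat.pow_le_pow_left (by rw [mul_add]; omega) _)
      _ = C * m ^ s * (j + 1) ^ s := by rw [mul_pow]; ring
  · have := Submodule.mul_mem_mul (hx i) hv
    rw [← pow_add] at this
    exact pow_mono h1V (by rw [mul_add]; omega) this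
  · exact pow_mono h1V (show m * j + m ≤ m * (j + 1) by rw [mul_add]; omega)
      (der_pow_le h1V m (D i) (hDm i) _ _ hv)

/-- The number of variables of a Noether normalization of an algebra standard smooth of relative dimension `n` is at
most `n`. -/
theorem le_of_isStandardSmooth {k A : Type u} [Field k] [CommRing A] [Algebra k A] (n : ℕ)
    [Algebra.IsStandardSmoothOfRelativeDimension n k A] (s : ℕ)
    (g : MvPolynomial (Fin s) k →ₐ[k] A) (hinj : Function.Injective g) (hg : g.Finite) : s ≤ n := by
  let P := MvPolynomial (Fin s) k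
  let _ : Algebra P A := g.toRingHom.toAlgebra
  have hfin : Module.Finite P A := hg
  have hint : Algebra.IsIntegral P A := inferInstance
  have hinj' : Function.Injective (algebraMap P A) := hinj
  obtain ⟨Q, -, hQ, hQ'⟩ := Ideal.exists_ideal_over_prime_of_isIntegral (R := P) (S := A) ⊥ ⊥
    (le_of_eq ((RingHom.injective_iff_ker_eq_bot _).mp hinj'))
  have h1 := Groth.Agent.Lefpen.H708.TrdegG.trdeg_quotient_le k A n Q
  let φ : P →ₐ[k] A ⧸ Q := (Ideal.Quotient.mkₐ k Q).comp g
  have hφ : Function.Injective φ := by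
    rw [RingHom.injective_iff_ker_eq_bot, ← hQ']
    ext p
    change Ideal.Quotient.mk Q (g p) = 0 ↔ algebraMap P A p ∈ Q
    rw [Ideal.Quotient.eq_zero_iff_mem]
    rfl
  have h2 := trdeg_le_of_injective φ hφ
  have h3 : Algebra.trdeg k P = s := by
    rw [MvPolynomial.trdeg_of_isDomain]
    simp
  rw [h3] at h2
  exact_mod_cast h2.trans h1

end K576.AlgGrow
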