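import Groth.Agent.DeRhamSh.K576.AlgOps
import Groth.Agent.DeRhamSh.K576.AlgGrow
import Groth.Agent.DeRhamSh.K853.SeqCoh
import Groth.Agent.Lefpen.H708.ChartLocal

/-!
# Finiteness of the de Rham cohomology of a standard smooth algebra over a field of characteristic zero
-/

set_option autoImplicit false

universe u

namespace K576.AlgFin

open Module Weyl K576.AlgOps K576.AlgGrow exteriorPower

/-- A quotient `Z / B` is finite if `Z ≤ G + B` with `G` finitely generated. -/
theorem finite_quot {k M : Type*} [Field k] [AddCommGroup M] [Module k M] (Z B G : Submodule k M) (hG : G.FG)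
    (h : Z ≤ G ⊔ B) : Module.Finite k (Z ⧸ B.submoduleOf Z) := by
  let f : Z →ₗ[k] M ⧸ B := B.mkQ ∘ₗ Z.subtype
  have hker : LinearMap.ker f = B.submoduleOf Z := by
    ext z
    rw [LinearMap.mem_ker]
    change B.mkQ z.1 = 0 ↔ z.1 ∈ B
    rw [Submodule.mkQ_apply, Submodule.Quotient.mk_eq_zero]
  have hr : LinearMap.range f ≤ G.map B.mkQ := by
    rintro _ ⟨z, rfl⟩
    obtain ⟨g, hg, c, hc, hgc⟩ := Submodule.mem_sup.mp (h z.2)
    refine ⟨g, hg, ?_⟩
    change B.mkQ g = B.mkQ z.1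
    rw [← hgc, map_add, Submodule.mkQ_apply _ c, (Submodule.Quotient.mk_eq_zero _).mpr hc, add_zero]
  have : Module.Finite k (G.map B.mkQ) := Module.Finite.iff_fg.mpr (hG.map _)
  have h1 : Module.Finite k (LinearMap.range f) :=
    Module.Finite.of_injective (Submodule.inclusion hr) (Submodule.inclusion_injective _)
  rw [← hker]
  exact Module.Finite.equiv f.quotKerEquivRange.symm

/-- Finiteness in coordinates. -/
theorem finite_of_coords {k A : Type u} [Field k] [CharZero k] [CommRing A] [Algebra k A] {n : ℕ}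
    (x : Fin n → A) (b : Basis (Fin n) A (Ω[A⁄k])) (hb : ∀ i, b i = KaehlerDifferential.D k A (x i))
    (F : ℕ → Submodule k A) (hF : Grow n F) (hX : ∀ i j, ∀ v ∈ F j, x i * v ∈ F (j + 1))
    (hD : ∀ i j, ∀ v ∈ F j, der b i v ∈ F (j + 1))
    (d : ∀ p : ℕ, ↥(⋀[A]^p (Ω[A⁄k])) →ₗ[k] ↥(⋀[A]^(p + 1) (Ω[A⁄k])))
    (hd : DeRham.IsRule (KaehlerDifferential.D k A) d) (p : ℕ) : Module.Finite k (K853.SeqCoh.H d p) := by
  obtain ⟨G, hG, hker⟩ := finH n _ _ _ _ _ _ (ops x b hb d hd hX hD) (grow_FE b hF)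
  rw [dd_eq x b hb d hd] at hker
  refine finite_quot _ _ (G.map (pr (k := k) p)) (hG.map _) (fun z hz => ?_)
  have hz : d p z = 0 := hz
  have h1 : (z : ExteriorAlgebra A (Ω[A⁄k])) ∈ LinearMap.ker (dE d) := by
    rw [LinearMap.mem_ker, dE_coe, hz]; rfl
  obtain ⟨g, hg, _, ⟨v, rfl⟩, hgv⟩ := Submodule.mem_sup.mp (hker h1)
  have h2 : z = pr (k := k) p g + pr (k := k) p (dE d v) := by
    rw [← map_add, hgv, pr_coe_same]
  rw [h2]
  refine add_mem (Submodule.mem_sup_left ⟨g, hg, rfl⟩) (Submodule.mem_sup_right ?_)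
  cases p with
  | zero => rw [pr_zero_dE]; exact zero_mem _
  | succ p => rw [pr_succ_dE]; exact ⟨_, rfl⟩

/-- Growth is monotone in the exponent. -/
theorem Grow.of_le {k V : Type*} [Field k] [AddCommGroup V] [Module k V] {m n : ℕ} (h : m ≤ n)
    {F : ℕ → Submodule k V} (hF : Grow m F) : Grow n F where
  mono := hF.mono
  exh := hF.exh
  fin := hF.fin
  bound := by
    obtain ⟨C, hC⟩ := hF.bound
    exact ⟨C, fun j => (hC j).trans (Nat.mul_le_mul_left _ (Nat.pow_le_pow_right (Nat.succ_pos j) h))⟩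

/-- **The de Rham cohomology of a standard smooth algebra over a field of characteristic zero is finite dimensional.** -/
theorem finite_H (k A : Type u) [Field k] [CharZero k] [CommRing A] [Algebra k A] (n : ℕ)
    [hs : Algebra.IsStandardSmoothOfRelativeDimension n k A]
    (d : ∀ p : ℕ, ↥(⋀[A]^p (Ω[A⁄k])) →ₗ[k] ↥(⋀[A]^(p + 1) (Ω[A⁄k])))
    (hd : DeRham.IsRule (KaehlerDifferential.D k A) d) (p : ℕ) : Module.Finite k (K853.SeqCoh.H d p) := by
  rcases subsingleton_or_nontrivial A with hA | hA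
  · have : Subsingleton ↥(⋀[A]^p (Ω[A⁄k])) := Module.subsingleton A _
    infer_instance
  obtain ⟨x, b, hb⟩ := Groth.Agent.Lefpen.H708.ChartLocal.exists_basis_D k A n
  have hst : Algebra.IsStandardSmooth k A := hs.isStandardSmooth
  have hft : Algebra.FiniteType k A := inferInstance
  obtain ⟨s, g, hinj, hg⟩ := exists_finite_inj_algHom_of_fg k A
  have hsn := le_of_isStandardSmooth n s g hinj hg
  obtain ⟨F, hF, hX, hD⟩ := exists_grow s g hg x (der b)
  exact finite_of_coords x b hb F (Grow.of_le hsn hF) hX hD d hd p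

end K576.AlgFin
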