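import Groth.Agent.DeRhamSh.K576.WeylGrow

/-!
# Finiteness of the Koszul complex of commuting Weyl pairs

`E` a vector space over a field of characteristic zero with
* operators `D a`, `X a` (`a < n`), `D a X b - X b D a = δ_ab`, `D a D b = D b D a`;
* operators `e a`, `c a` (`a < n`) with the relations of exterior multiplication and contraction, commuting with
  the `D a` (and `c` with the `X a`);
* an exhaustive increasing filtration `F` by finite dimensional subspaces, `dim F_j ≤ C (j + 1) ^ n`,
  with `D a F_j, X a F_j ≤ F_(j+1)`.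

Then `d = ∑ e a D a` has finite dimensional cohomology (`finH`).
-/

set_option autoImplicit false

universe u v

namespace K576.Weyl

open Module

variable {k : Type u} [Field k]

section defs

variable {E : Type v} [AddCommGroup E] [Module k E]

/-- The relations. -/
structure Ops (n : ℕ) (X D e c : ℕ → End k E) (F : ℕ → Submodule k E) : Prop where
  DX : ∀ a b, a < n → b < n → ∀ v, D a (X b v) = X b (D a v) + if a = b then v else 0
  DD : ∀ a b, a < n → b < n → ∀ v, D a (D b v) = D b (D a v)
  De : ∀ a b, a < n → b < n → ∀ v, D a (e b v) = e b (D a v)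
  Dc : ∀ a b, a < n → b < n → ∀ v, D a (c b v) = c b (D a v)
  Xc : ∀ a b, a < n → b < n → ∀ v, X a (c b v) = c b (X a v)
  ee : ∀ a b, a < n → b < n → ∀ v, e a (e b v) = - e b (e a v)
  cc : ∀ a b, a < n → b < n → ∀ v, c a (c b v) = - c b (c a v)
  ce : ∀ a b, a < n → b < n → ∀ v, c a (e b v) = (if a = b then v else 0) - e b (c a v)
  FX : ∀ a, a < n → ∀ j, ∀ v ∈ F j, X a v ∈ F (j + 1)
  FD : ∀ a, a < n → ∀ j, ∀ v ∈ F j, D a v ∈ F (j + 1)

/-- The differential. -/
def dd (n : ℕ) (e D : ℕ → End k E) : End k E := ∑ a ∈ Finset.range n, e a * D a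

theorem dd_apply (n : ℕ) (e D : ℕ → End k E) (v : E) : dd n e D v = ∑ a ∈ Finset.range n, e a (D a v) := by
  simp [dd]

theorem dd_succ (n : ℕ) (e D : ℕ → End k E) (v : E) : dd (n + 1) e D v = dd n e D v + e n (D n v) := by
  rw [dd_apply, dd_apply, Finset.sum_range_succ]

/-- Finite dimensional cohomology. -/
def FinH (d : End k E) : Prop := ∃ G : Submodule k E, G.FG ∧ LinearMap.ker d ≤ G ⊔ LinearMap.range d

theorem Ops.le {m n : ℕ} (hmn : m ≤ n) {X D e c : ℕ → End k E} {F : ℕ → Submodule k E}
    (w : Ops n X D e c F) : Ops m X D e c F where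
  DX a b ha hb := w.DX a b (by omega) (by omega)
  DD a b ha hb := w.DD a b (by omega) (by omega)
  De a b ha hb := w.De a b (by omega) (by omega)
  Dc a b ha hb := w.Dc a b (by omega) (by omega)
  Xc a b ha hb := w.Xc a b (by omega) (by omega)
  ee a b ha hb := w.ee a b (by omega) (by omega)
  cc a b ha hb := w.cc a b (by omega) (by omega)
  ce a b ha hb := w.ce a b (by omega) (by omega)
  FX a ha := w.FX a (by omega)
  FD a ha := w.FD a (by omega)

open Classical in
/-- Restriction of an operator to an invariant subspace (zero when it is not invariant). -/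
noncomputable def res (S : Submodule k E) (T : End k E) : End k S :=
  if h : ∀ v ∈ S, T v ∈ S then T.restrict h else 0

theorem res_apply {S : Submodule k E} {T : End k E} (h : ∀ v ∈ S, T v ∈ S) (v : S) :
    (res S T v : E) = T v := by
  rw [res, dif_pos h]; rfl

open Classical in
/-- The operator induced on a quotient (zero when the subspace is not invariant). -/
noncomputable def quo (S : Submodule k E) (T : End k E) : End k (E ⧸ S) :=
  if h : S ≤ S.comap T then S.mapQ S T h else 0

theorem quo_apply {S : Submodule k E} {T : End k E} (h : ∀ v ∈ S, T v ∈ S) (v : E) :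
    quo S T (S.mkQ v) = S.mkQ (T v) := by
  rw [quo, dif_pos (show S ≤ S.comap T from h)]; rfl

theorem Ops.sub {n : ℕ} {X D e c : ℕ → End k E} {F : ℕ → Submodule k E} (w : Ops n X D e c F)
    (S : Submodule k E) (hX : ∀ a, a < n → ∀ v ∈ S, X a v ∈ S) (hD : ∀ a, a < n → ∀ v ∈ S, D a v ∈ S)
    (he : ∀ a, a < n → ∀ v ∈ S, e a v ∈ S) (hc : ∀ a, a < n → ∀ v ∈ S, c a v ∈ S) :
    Ops n (fun a => res S (X a)) (fun a => res S (D a)) (fun a => res S (e a)) (fun a => res S (c a))
      (fun j => (F j).comap S.subtype) where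
  DX a b ha hb v := Subtype.ext (by
    rw [Submodule.coe_add, res_apply (hD a ha), res_apply (hX b hb), res_apply (hX b hb), res_apply (hD a ha),
      w.DX a b ha hb]
    split_ifs <;> simp)
  DD a b ha hb v := Subtype.ext (by
    simp only [res_apply (hD a ha), res_apply (hD b hb)]; exact w.DD a b ha hb _)
  De a b ha hb v := Subtype.ext (by
    simp only [res_apply (hD a ha), res_apply (he b hb)]; exact w.De a b ha hb _)
  Dc a b ha hb v := Subtype.ext (by
    simp only [res_apply (hD a ha), res_apply (hc b hb)]; exact w.Dc a b ha hb _)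
  Xc a b ha hb v := Subtype.ext (by
    simp only [res_apply (hX a ha), res_apply (hc b hb)]; exact w.Xc a b ha hb _)
  ee a b ha hb v := Subtype.ext (by
    simp only [Submodule.coe_neg, res_apply (he a ha), res_apply (he b hb)]; exact w.ee a b ha hb _)
  cc a b ha hb v := Subtype.ext (by
    simp only [Submodule.coe_neg, res_apply (hc a ha), res_apply (hc b hb)]; exact w.cc a b ha hb _)
  ce a b ha hb v := Subtype.ext (by
    rw [Submodule.coe_sub, res_apply (hc a ha), res_apply (he b hb), res_apply (he b hb), res_apply (hc a ha),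
      w.ce a b ha hb]
    split_ifs <;> simp)
  FX a ha j v hv := by
    change (res S (X a) v : E) ∈ F (j + 1)
    rw [res_apply (hX a ha)]
    exact w.FX a ha j _ hv
  FD a ha j v hv := by
    change (res S (D a) v : E) ∈ F (j + 1)
    rw [res_apply (hD a ha)]
    exact w.FD a ha j _ hv

theorem Ops.quot {n : ℕ} {X D e c : ℕ → End k E} {F : ℕ → Submodule k E} (w : Ops n X D e c F)
    (S : Submodule k E) (hX : ∀ a, a < n → ∀ v ∈ S, X a v ∈ S) (hD : ∀ a, a < n → ∀ v ∈ S, D a v ∈ S)
    (he : ∀ a, a < n → ∀ v ∈ S, e a v ∈ S) (hc : ∀ a, a < n → ∀ v ∈ S, c a v ∈ S) :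
    Ops n (fun a => quo S (X a)) (fun a => quo S (D a)) (fun a => quo S (e a)) (fun a => quo S (c a))
      (fun j => (F j).map S.mkQ) where
  DX a b ha hb v := by
    obtain ⟨v, rfl⟩ := Submodule.mkQ_surjective _ v
    rw [quo_apply (hX b hb), quo_apply (hD a ha), quo_apply (hD a ha), quo_apply (hX b hb), w.DX a b ha hb, map_add]
    split_ifs <;> simp
  DD a b ha hb v := by
    obtain ⟨v, rfl⟩ := Submodule.mkQ_surjective _ v
    simp only [quo_apply (hD a ha), quo_apply (hD b hb), w.DD a b ha hb]
  De a b ha hb v := by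
    obtain ⟨v, rfl⟩ := Submodule.mkQ_surjective _ v
    simp only [quo_apply (hD a ha), quo_apply (he b hb), w.De a b ha hb]
  Dc a b ha hb v := by
    obtain ⟨v, rfl⟩ := Submodule.mkQ_surjective _ v
    simp only [quo_apply (hD a ha), quo_apply (hc b hb), w.Dc a b ha hb]
  Xc a b ha hb v := by
    obtain ⟨v, rfl⟩ := Submodule.mkQ_surjective _ v
    simp only [quo_apply (hX a ha), quo_apply (hc b hb), w.Xc a b ha hb]
  ee a b ha hb v := by
    obtain ⟨v, rfl⟩ := Submodule.mkQ_surjective _ v
    simp only [quo_apply (he a ha), quo_apply (he b hb)]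
    rw [w.ee a b ha hb, map_neg]
  cc a b ha hb v := by
    obtain ⟨v, rfl⟩ := Submodule.mkQ_surjective _ v
    simp only [quo_apply (hc a ha), quo_apply (hc b hb)]
    rw [w.cc a b ha hb, map_neg]
  ce a b ha hb v := by
    obtain ⟨v, rfl⟩ := Submodule.mkQ_surjective _ v
    rw [quo_apply (he b hb), quo_apply (hc a ha), quo_apply (hc a ha), quo_apply (he b hb), w.ce a b ha hb, map_sub]
    split_ifs <;> simp
  FX a ha j v hv := by
    obtain ⟨v, hv, rfl⟩ := hv
    refine ⟨X a v, w.FX a ha j _ hv, (quo_apply (hX a ha) v).symm⟩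
  FD a ha j v hv := by
    obtain ⟨v, hv, rfl⟩ := hv
    refine ⟨D a v, w.FD a ha j _ hv, (quo_apply (hD a ha) v).symm⟩

theorem dd_res {n : ℕ} {D e : ℕ → End k E} (S : Submodule k E) (hD : ∀ a, a < n → ∀ v ∈ S, D a v ∈ S)
    (he : ∀ a, a < n → ∀ v ∈ S, e a v ∈ S) (v : S) :
    (dd n (fun a => res S (e a)) (fun a => res S (D a)) v : E) = dd n e D v := by
  rw [dd_apply, dd_apply, AddSubmonoidClass.coe_finsetSum]
  refine Finset.sum_congr rfl (fun a ha => ?_)
  have ha := Finset.mem_range.mp ha
  rw [res_apply (he a ha), res_apply (hD a ha)]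

theorem dd_quo {n : ℕ} {D e : ℕ → End k E} (S : Submodule k E) (hD : ∀ a, a < n → ∀ v ∈ S, D a v ∈ S)
    (he : ∀ a, a < n → ∀ v ∈ S, e a v ∈ S) (v : E) :
    dd n (fun a => quo S (e a)) (fun a => quo S (D a)) (S.mkQ v) = S.mkQ (dd n e D v) := by
  rw [dd_apply, dd_apply, map_sum]
  refine Finset.sum_congr rfl (fun a ha => ?_)
  have ha := Finset.mem_range.mp ha
  rw [quo_apply (hD a ha), quo_apply (he a ha)]

end defs

/-- If `f : V → W` has image in a finite dimensional subspace then `V` is the sum of a finite dimensional subspace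
and the kernel. -/
theorem exists_fg_sup_ker {V W : Type*} [AddCommGroup V] [Module k V] [AddCommGroup W] [Module k W]
    (f : V →ₗ[k] W) (G : Submodule k W) (hG : G.FG) (h : LinearMap.range f ≤ G) :
    ∃ G' : Submodule k V, G'.FG ∧ G' ⊔ LinearMap.ker f = ⊤ := by
  obtain ⟨G', hG'⟩ := Submodule.exists_isCompl (LinearMap.ker f)
  refine ⟨G', ?_, by rw [sup_comm]; exact hG'.sup_eq_top⟩
  have : Module.Finite k G := Module.Finite.iff_fg.mpr hG
  have h1 : Module.Finite k (LinearMap.range f) :=
    Module.Finite.of_injective (Submodule.inclusion h) (Submodule.inclusion_injective _)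
  have e := (Submodule.quotientEquivOfIsCompl _ _ hG').symm.trans (LinearMap.quotKerEquivRange f)
  exact Module.Finite.iff_fg.mp (Module.Finite.equiv e.symm)

theorem eq_zero_of_eq_neg [CharZero k] {V : Type*} [AddCommGroup V] [Module k V] {x : V} (h : x = -x) : x = 0 := by
  have h1 : (2 : k) • x = 0 := by rw [two_smul]; nth_rewrite 2 [h]; exact add_neg_cancel x
  exact (smul_eq_zero.mp h1).resolve_left two_ne_zero

/-- The Koszul complex of commuting Weyl pairs has finite dimensional cohomology. -/
theorem finH [CharZero k] (n : ℕ) : ∀ (E : Type v) [AddCommGroup E] [Module k E] (X D e c : ℕ → End k E)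
    (F : ℕ → Submodule k E) (_ : Ops n X D e c F) (_ : Grow n F), FinH (dd n e D) := by
  induction n with
  | zero =>
    intro E _ _ X D e c F _ hF
    have := hF.finite
    exact ⟨⊤, Module.Finite.iff_fg.mp (Module.Finite.equiv (Submodule.topEquiv (R := k) (M := E)).symm),
      le_sup_of_le_left le_top⟩
  | succ n ih =>
    intro E _ _ X D e c F w hF
    have hn : n < n + 1 := Nat.lt_succ_self n
    have hlt : ∀ a, a < n → a < n + 1 := fun a ha => Nat.lt_succ_of_lt ha
    have wn : Ops n X D e c F := w.le (Nat.le_succ n)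
    have hcc0 : ∀ v, c n (c n v) = 0 := fun v => eq_zero_of_eq_neg (k := k) (w.cc n n hn hn v)
    have hee0 : ∀ v, e n (e n v) = 0 := fun v => eq_zero_of_eq_neg (k := k) (w.ee n n hn hn v)
    -- the subspace without `e n`
    let S : Submodule k E := LinearMap.ker (c n)
    have hS : ∀ v, v ∈ S ↔ c n v = 0 := fun v => LinearMap.mem_ker
    have SX : ∀ a, a < n + 1 → ∀ v ∈ S, X a v ∈ S := fun a ha v hv => by
      rw [hS] at hv ⊢; rw [← w.Xc a n ha hn, hv, map_zero]
    have SD : ∀ a, a < n + 1 → ∀ v ∈ S, D a v ∈ S := fun a ha v hv => by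
      rw [hS] at hv ⊢; rw [← w.Dc a n ha hn, hv, map_zero]
    have Se : ∀ a, a < n → ∀ v ∈ S, e a v ∈ S := fun a ha v hv => by
      rw [hS] at hv ⊢; rw [w.ce n a hn (hlt a ha), hv, map_zero, if_neg (by omega), sub_zero]
    have Sc : ∀ a, a < n → ∀ v ∈ S, c a v ∈ S := fun a ha v hv => by
      rw [hS] at hv ⊢; rw [w.cc n a hn (hlt a ha), hv, map_zero, neg_zero]
    let X' : ℕ → End k S := fun a => res S (X a)
    let D' : ℕ → End k S := fun a => res S (D a)
    let e' : ℕ → End k S := fun a => res S (e a)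
    let c' : ℕ → End k S := fun a => res S (c a)
    let F' : ℕ → Submodule k S := fun j => (F j).comap S.subtype
    have wS : Ops n X' D' e' c' F' :=
      wn.sub S (fun a ha => SX a (hlt a ha)) (fun a ha => SD a (hlt a ha)) Se Sc
    have hF' : Grow (n + 1) F' := hF.comap S
    have hDX : ∀ v, D' n (X' n v) = X' n (D' n v) + v := fun v => Subtype.ext (by
      rw [Submodule.coe_add, res_apply (SD n hn), res_apply (SX n hn), res_apply (SX n hn), res_apply (SD n hn),
        w.DX n n hn hn, if_pos rfl])
    have hFX : ∀ j, ∀ v ∈ F' j, X' n v ∈ F' (j + 1) := fun j v hv => by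
      change (X' n v : E) ∈ F (j + 1)
      rw [res_apply (SX n hn)]
      exact w.FX n hn j _ hv
    have hFD : ∀ j, ∀ v ∈ F' j, D' n v ∈ F' (j + 1) := fun j v hv => by
      change (D' n v : E) ∈ F (j + 1)
      rw [res_apply (SD n hn)]
      exact w.FD n hn j _ hv
    have hDX' : ∀ a, a < n → ∀ v, D' n (X' a v) = X' a (D' n v) := fun a ha v => Subtype.ext (by
      rw [res_apply (SD n hn), res_apply (SX a (hlt a ha)), res_apply (SX a (hlt a ha)), res_apply (SD n hn),
        w.DX n a hn (hlt a ha), if_neg (by omega), add_zero])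
    have hDD' : ∀ a, a < n → ∀ v, D' n (D' a v) = D' a (D' n v) := fun a ha v => Subtype.ext (by
      rw [res_apply (SD n hn), res_apply (SD a (hlt a ha)), res_apply (SD a (hlt a ha)), res_apply (SD n hn),
        w.DD n a hn (hlt a ha)])
    have hDe' : ∀ a, a < n → ∀ v, D' n (e' a v) = e' a (D' n v) := fun a ha v => Subtype.ext (by
      rw [res_apply (SD n hn), res_apply (Se a ha), res_apply (Se a ha), res_apply (SD n hn),
        w.De n a hn (hlt a ha)])
    have hDc' : ∀ a, a < n → ∀ v, D' n (c' a v) = c' a (D' n v) := fun a ha v => Subtype.ext (by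
      rw [res_apply (SD n hn), res_apply (Sc a ha), res_apply (Sc a ha), res_apply (SD n hn),
        w.Dc n a hn (hlt a ha)])
    -- the kernel
    let N : Submodule k S := LinearMap.ker (D' n)
    have kerT : ∀ T : End k S, (∀ v, D' n (T v) = T (D' n v)) → ∀ v ∈ N, T v ∈ N := fun T hT v hv => by
      have hv' : D' n v = 0 := hv
      change D' n (T v) = 0
      rw [hT, hv', map_zero]
    have wN := wS.sub N (fun a ha => kerT _ (hDX' a ha)) (fun a ha => kerT _ (hDD' a ha))
      (fun a ha => kerT _ (hDe' a ha)) (fun a ha => kerT _ (hDc' a ha))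
    obtain ⟨GN, hGN, hN⟩ := ih N _ _ _ _ _ wN (hF'.ker hDX hFX)
    -- the cokernel
    let R : Submodule k S := LinearMap.range (D' n)
    have ranT : ∀ T : End k S, (∀ v, D' n (T v) = T (D' n v)) → ∀ v ∈ R, T v ∈ R := fun T hT v hv => by
      obtain ⟨u, rfl⟩ := hv
      exact ⟨T u, hT u⟩
    have wQ := wS.quot R (fun a ha => ranT _ (hDX' a ha)) (fun a ha => ranT _ (hDD' a ha))
      (fun a ha => ranT _ (hDe' a ha)) (fun a ha => ranT _ (hDc' a ha))
    obtain ⟨GQ, hGQ, hQ⟩ := ih (S ⧸ R) _ _ _ _ _ wQ (hF'.coker hDX hFD)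
    -- notation
    set d := dd (n + 1) e D with hd
    set dS : End k S := dd n e' D' with hdS
    have hdS' : ∀ v : S, (dS v : E) = dd n e D v := fun v =>
      dd_res S (fun a ha => SD a (hlt a ha)) Se v
    have hdv : ∀ v, d v = dd n e D v + e n (D n v) := dd_succ n e D
    set dQ : End k (S ⧸ R) := dd n (fun a => quo R (e' a)) (fun a => quo R (D' a)) with hdQ
    have hdQ' : ∀ v : S, dQ (R.mkQ v) = R.mkQ (dS v) := fun v =>
      dd_quo R (fun a ha => ranT _ (hDD' a ha)) (fun a ha => ranT _ (hDe' a ha)) v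
    set dN : End k N := dd n (fun a => res N (e' a)) (fun a => res N (D' a)) with hdN
    have hdN' : ∀ v : N, (dN v : S) = dS v := fun v =>
      dd_res N (fun a ha => kerT _ (hDD' a ha)) (fun a ha => kerT _ (hDe' a ha)) v
    -- `d' e_n = - e_n d'`
    have hde : ∀ v, dd n e D (e n v) = - e n (dd n e D v) := fun v => by
      rw [dd_apply, dd_apply, map_sum, ← Finset.sum_neg_distrib]
      refine Finset.sum_congr rfl (fun a ha => ?_)
      have ha := Finset.mem_range.mp ha
      rw [w.De a n (hlt a ha) hn, w.ee a n (hlt a ha) hn]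
    -- `c_n d' = - d' c_n`
    have hcd : ∀ v, c n (dd n e D v) = - dd n e D (c n v) := fun v => by
      rw [dd_apply, dd_apply, map_sum, ← Finset.sum_neg_distrib]
      refine Finset.sum_congr rfl (fun a ha => ?_)
      have ha := Finset.mem_range.mp ha
      rw [w.ce n a hn (hlt a ha), if_neg (by omega), zero_sub, ← w.Dc a n (hlt a ha) hn]
    have hDd : ∀ v, D n (dd n e D v) = dd n e D (D n v) := fun v => by
      rw [dd_apply, dd_apply, map_sum]
      refine Finset.sum_congr rfl (fun a ha => ?_)
      have ha := Finset.mem_range.mp ha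
      rw [w.De n a hn (hlt a ha), w.DD n a hn (hlt a ha)]
    have hdd : ∀ v, dd n e D (dd n e D v) = 0 := fun v => by
      have h0 : ∀ u, dd n e D (dd n e D u) =
          ∑ a ∈ Finset.range n, ∑ b ∈ Finset.range n, e a (e b (D a (D b u))) := fun u => by
        rw [dd_apply n e D (dd n e D u), dd_apply n e D u]
        simp only [map_sum]
        refine Finset.sum_congr rfl (fun a ha => Finset.sum_congr rfl (fun b hb => ?_))
        rw [w.De a b (hlt a (Finset.mem_range.mp ha)) (hlt b (Finset.mem_range.mp hb))]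
      have h1 : ∀ u, dd n e D (dd n e D u) = - dd n e D (dd n e D u) := fun u => by
        conv_lhs => rw [h0, Finset.sum_comm]
        conv_rhs => rw [h0, ← Finset.sum_neg_distrib]
        refine Finset.sum_congr rfl (fun a ha => ?_)
        rw [← Finset.sum_neg_distrib]
        refine Finset.sum_congr rfl (fun b hb => ?_)
        have ha := Finset.mem_range.mp ha
        have hb := Finset.mem_range.mp hb
        rw [w.ee b a (hlt b hb) (hlt a ha), w.DD b a (hlt b hb) (hlt a ha)]
      exact eq_zero_of_eq_neg (k := k) (h1 v)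
    -- the component `b = c_n w`
    let β : E →ₗ[k] S := (c n).codRestrict S (fun v => (hS _).mpr (hcc0 v))
    have hβ : ∀ v, (β v : E) = c n v := fun v => rfl
    -- relations for a cocycle
    have hw1 : ∀ v, d v = 0 → D n (v - e n (c n v)) = dd n e D (c n v) := by
      intro v hv
      have h1 := congrArg (c n) hv
      rw [hdv, map_add, map_zero, hcd, w.ce n n hn hn, if_pos rfl] at h1
      have h2 : D n v = dd n e D (c n v) + e n (c n (D n v)) := by
        have := add_eq_zero_iff_eq_neg.mp h1
        rw [neg_eq_iff_eq_neg] at this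
        rw [this]; abel
      rw [map_sub, w.De n n hn hn, w.Dc n n hn hn, h2]
      have h3 : c n (dd n e D (c n v)) = 0 := by rw [hcd, hcc0, map_zero, neg_zero]
      have h4 : c n (e n (c n (D n v))) = c n (D n v) := by
        rw [w.ce n n hn hn, if_pos rfl, hcc0, map_zero, sub_zero]
      rw [map_add (c n), h3, h4, zero_add]
      abel
    have hw0 : ∀ v, c n (v - e n (c n v)) = 0 := fun v => by
      rw [map_sub, w.ce n n hn hn, if_pos rfl, hcc0, map_zero, sub_zero, sub_self]
    have hw2 : ∀ v, d v = 0 → dd n e D (v - e n (c n v)) = 0 := by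
      intro v hv
      have h1 := hw1 v hv
      have h2 : d v = dd n e D (v - e n (c n v)) + dd n e D (e n (c n v)) + e n (D n v) := by
        rw [hdv, ← map_add, sub_add_cancel]
      have h3 : D n v = dd n e D (c n v) + e n (D n (c n v)) := by
        rw [← h1, map_sub, w.De n n hn hn]; abel
      rw [hv, hde, h3, map_add, hee0, add_zero] at h2
      rw [h2]; abel
    -- the map to the cohomology of the cokernel
    let φ : LinearMap.ker d →ₗ[k] ((S ⧸ R) ⧸ LinearMap.range dQ) :=
      (LinearMap.range dQ).mkQ ∘ₗ R.mkQ ∘ₗ β ∘ₗ (LinearMap.ker d).subtype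
    have hφ : LinearMap.range φ ≤ GQ.map (LinearMap.range dQ).mkQ := by
      rintro _ ⟨⟨v, hv⟩, rfl⟩
      have hv : d v = 0 := hv
      have h1 : R.mkQ (β v) ∈ LinearMap.ker dQ := by
        rw [LinearMap.mem_ker, hdQ', Submodule.mkQ_apply, Submodule.Quotient.mk_eq_zero]
        refine ⟨⟨v - e n (c n v), (hS _).mpr (hw0 v)⟩, Subtype.ext ?_⟩
        rw [res_apply (SD n hn), hdS', hβ]
        exact hw1 v hv
      obtain ⟨g, hg, r, hr, hgr⟩ := Submodule.mem_sup.mp (hQ h1)
      refine ⟨g, hg, ?_⟩
      change (LinearMap.range dQ).mkQ g = (LinearMap.range dQ).mkQ (R.mkQ (β v))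
      rw [← hgr, map_add, Submodule.mkQ_apply _ r, (Submodule.Quotient.mk_eq_zero _).mpr hr, add_zero]
    obtain ⟨G', hG', hG'top⟩ := exists_fg_sup_ker φ _ (hGQ.map _) hφ
    refine ⟨G'.map (LinearMap.ker d).subtype ⊔ GN.map (S.subtype ∘ₗ N.subtype),
      (hG'.map _).sup (hGN.map _), ?_⟩
    intro v hv
    have h1 : (⟨v, hv⟩ : LinearMap.ker d) ∈ G' ⊔ LinearMap.ker φ := by rw [hG'top]; trivial
    obtain ⟨g, hg, u, hu, hgu⟩ := Submodule.mem_sup.mp h1
    have hv2 : v = (g : E) + u := (congrArg Subtype.val hgu).symm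
    have hgmem : (g : E) ∈ G'.map (LinearMap.ker d).subtype := ⟨g, hg, rfl⟩
    suffices hsuff : (u : E) ∈ GN.map (S.subtype ∘ₗ N.subtype) ⊔ LinearMap.range d by
      rw [hv2]
      refine add_mem (Submodule.mem_sup_left (Submodule.mem_sup_left hgmem)) ?_
      exact (sup_le (le_sup_of_le_left le_sup_right) le_sup_right :
        GN.map (S.subtype ∘ₗ N.subtype) ⊔ LinearMap.range d ≤
          (G'.map (LinearMap.ker d).subtype ⊔ GN.map (S.subtype ∘ₗ N.subtype)) ⊔ LinearMap.range d) hsuff
    have hud : d (u : E) = 0 := u.2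
    have hu1 : R.mkQ (β u) ∈ LinearMap.range dQ := by
      have : (LinearMap.range dQ).mkQ (R.mkQ (β u)) = 0 := hu
      rwa [Submodule.mkQ_apply _ (R.mkQ (β u)), Submodule.Quotient.mk_eq_zero] at this
    obtain ⟨q, hq⟩ := hu1
    obtain ⟨x, rfl⟩ := Submodule.mkQ_surjective _ q
    rw [hdQ', ← sub_eq_zero, ← map_sub, Submodule.mkQ_apply, Submodule.Quotient.mk_eq_zero] at hq
    obtain ⟨y, hy⟩ := hq
    -- `b = d' x - D_n y`
    have hb : c n (u : E) = dd n e D x - D n y := by
      have := congrArg Subtype.val hy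
      rw [res_apply (SD n hn), Submodule.coe_sub, hdS', hβ] at this
      rw [this]; abel
    -- subtract a coboundary
    let a : E := (u : E) - e n (c n (u : E))
    have ha0 : c n a = 0 := hw0 u
    have ha1 : D n a = dd n e D (c n (u : E)) := hw1 u hud
    have ha2 : dd n e D a = 0 := hw2 u hud
    have hyS : c n (y : E) = 0 := y.2
    have hxS : c n (x : E) = 0 := x.2
    let a' : E := a + dd n e D y
    have ha'0 : c n a' = 0 := by
      change c n (a + dd n e D y) = 0
      rw [map_add, ha0, hcd, hyS, map_zero, neg_zero, add_zero]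
    have ha'1 : D n a' = 0 := by
      change D n (a + dd n e D y) = 0
      rw [map_add, ha1, hb, hDd, map_sub, hdd, zero_sub, neg_add_cancel]
    have ha'2 : dd n e D a' = 0 := by
      change dd n e D (a + dd n e D y) = 0
      rw [map_add, ha2, hdd, add_zero]
    let aS : S := ⟨a', (hS _).mpr ha'0⟩
    have haN : aS ∈ N := by
      change D' n aS = 0
      exact Subtype.ext (by rw [res_apply (SD n hn)]; exact ha'1)
    have haK : (⟨aS, haN⟩ : N) ∈ LinearMap.ker dN := by
      rw [LinearMap.mem_ker]
      refine Subtype.ext (Subtype.ext ?_)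
      rw [hdN', hdS']
      exact ha'2
    obtain ⟨g1, hg1, r1, ⟨s1, rfl⟩, hgr1⟩ := Submodule.mem_sup.mp (hN haK)
    have ha'3 : a' = (g1 : S) + (dN s1 : S) := by
      have := congrArg (fun t : N => ((t : S) : E)) hgr1
      simpa using this.symm
    have hds1 : ((dN s1 : S) : E) = d ((s1 : S) : E) := by
      rw [hdN', hdS', hdv]
      have : D n ((s1 : S) : E) = 0 := by
        have h5 : D' n (s1 : S) = 0 := s1.2
        have h6 := congrArg Subtype.val h5
        rwa [res_apply (SD n hn)] at h6
      rw [this, map_zero, add_zero]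
    have hfin : (u : E) = ((g1 : S) : E) + d (((s1 : S) : E) - (y : E) - e n (x : E)) := by
      have h7 : d (y : E) = dd n e D y + e n (D n y) := hdv _
      have h8 : d (e n (x : E)) = - e n (dd n e D x) := by
        rw [hdv, hde, w.De n n hn hn, hee0, add_zero]
      have h9 : (u : E) = a + e n (c n (u : E)) := by
        change (u : E) = (u : E) - e n (c n (u : E)) + e n (c n (u : E)); abel
      have h10 : a = ((g1 : S) : E) + d ((s1 : S) : E) - dd n e D y := by
        rw [← hds1, ← ha'3]
        change a = a + dd n e D y - dd n e D y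
        abel
      rw [map_sub, map_sub, h7, h8, h9, h10, hb, map_sub]
      abel
    rw [hfin]
    exact add_mem (Submodule.mem_sup_left ⟨g1, hg1, rfl⟩) (Submodule.mem_sup_right ⟨_, rfl⟩)

end K576.Weyl
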