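import Groth.Prelude.Def_DeRham
import Groth.Agent.DeRhamSh.K576.WeylKos
import Mathlib.LinearAlgebra.ExteriorAlgebra.Grading
import Mathlib.LinearAlgebra.CliffordAlgebra.Contraction
import Mathlib.RingTheory.Derivation.Lie

/-!
# The de Rham complex of an algebra with coordinates, as a Koszul complex of Weyl pairs

`A` an algebra over a field `k`, `x i ∈ A` (`i < n`) whose differentials form a basis of `Ω[A⁄k]`.
On `E = ⋀ Ω[A⁄k]` (the whole exterior algebra): `dE` the total de Rham differential, `ee i` the multiplication by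
`dx_i`, `cc i` the contraction with the `i`-th coordinate, `L i = dE ∘ cc i + cc i ∘ dE`.
-/

set_option autoImplicit false

universe u

namespace K576.AlgOps

open Module Weyl exteriorPower

section graded

variable {k A M : Type u} [Field k] [CommRing A] [Algebra k A] [AddCommGroup M] [Module A M] [Module k M]
  [IsScalarTower k A M]

/-- The total differential (additive). -/
noncomputable def dE0 (d : ∀ p : ℕ, ↥(⋀[A]^p M) →ₗ[k] ↥(⋀[A]^(p + 1) M)) :
    ExteriorAlgebra A M →+ ExteriorAlgebra A M :=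
  (DirectSum.toAddMonoid (fun p : ℕ => ((⋀[A]^(p + 1) M).subtype.toAddMonoidHom.comp (d p).toAddMonoidHom))).comp
    (DirectSum.decomposeAddEquiv (fun i : ℕ => ⋀[A]^i M)).toAddMonoidHom

theorem dE0_coe (d : ∀ p : ℕ, ↥(⋀[A]^p M) →ₗ[k] ↥(⋀[A]^(p + 1) M)) (p : ℕ) (x : ↥(⋀[A]^p M)) :
    dE0 d (x : ExteriorAlgebra A M) = d p x := by
  change DirectSum.toAddMonoid _ (DirectSum.decompose (fun i : ℕ => ⋀[A]^i M) (x : ExteriorAlgebra A M)) = _
  rw [DirectSum.decompose_coe, DirectSum.toAddMonoid_of]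
  rfl

/-- Induction on homogeneous elements. -/
theorem hom_ind {P : ExteriorAlgebra A M → Prop} (h0 : ∀ (p : ℕ) (x : ↥(⋀[A]^p M)), P x)
    (hadd : ∀ v w, P v → P w → P (v + w)) (v : ExteriorAlgebra A M) : P v := by
  have hz : P 0 := h0 0 0
  exact DirectSum.Decomposition.inductionOn (fun i : ℕ => ⋀[A]^i M) hz (fun {i} m => h0 i m) hadd v

/-- The total differential. -/
noncomputable def dE (d : ∀ p : ℕ, ↥(⋀[A]^p M) →ₗ[k] ↥(⋀[A]^(p + 1) M)) :
    Module.End k (ExteriorAlgebra A M) :=
  { dE0 d with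
    map_smul' := fun c v => by
      change dE0 d (c • v) = c • dE0 d v
      refine hom_ind (P := fun v => dE0 d (c • v) = c • dE0 d v) (fun p x => ?_) (fun v w hv hw => ?_) v
      · have h1 : c • (x : ExteriorAlgebra A M) = ((c • x : ↥(⋀[A]^p M)) : ExteriorAlgebra A M) := rfl
        rw [h1, dE0_coe, dE0_coe, map_smul]
        rfl
      · rw [smul_add, map_add, hv, hw, map_add, smul_add] }

theorem dE_coe (d : ∀ p : ℕ, ↥(⋀[A]^p M) →ₗ[k] ↥(⋀[A]^(p + 1) M)) (p : ℕ) (x : ↥(⋀[A]^p M)) :
    dE d (x : ExteriorAlgebra A M) = d p x := dE0_coe d p x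

/-- The homogeneous component. -/
noncomputable def pr (p : ℕ) : ExteriorAlgebra A M →ₗ[k] ↥(⋀[A]^p M) where
  toFun v := DirectSum.decompose (fun i : ℕ => ⋀[A]^i M) v p
  map_add' v w := by rw [DirectSum.decompose_add]; rfl
  map_smul' c v := by
    refine hom_ind (P := fun v => DirectSum.decompose (fun i : ℕ => ⋀[A]^i M) (c • v) p =
      c • DirectSum.decompose (fun i : ℕ => ⋀[A]^i M) v p) (fun i x => ?_) (fun v w hv hw => ?_) v
    · have h1 : c • (x : ExteriorAlgebra A M) = ((c • x : ↥(⋀[A]^i M)) : ExteriorAlgebra A M) := rfl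
      rw [h1, DirectSum.decompose_coe, DirectSum.decompose_coe]
      by_cases hip : i = p
      · subst hip
        rw [DirectSum.of_eq_same, DirectSum.of_eq_same]
      · rw [DirectSum.of_eq_of_ne _ _ _ (Ne.symm hip), DirectSum.of_eq_of_ne _ _ _ (Ne.symm hip), smul_zero]
    · rw [smul_add, DirectSum.decompose_add, DirectSum.decompose_add, DirectSum.add_apply, DirectSum.add_apply,
        hv, hw, smul_add]

theorem pr_coe_same (p : ℕ) (x : ↥(⋀[A]^p M)) : pr (k := k) p (x : ExteriorAlgebra A M) = x := by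
  change DirectSum.decompose (fun i : ℕ => ⋀[A]^i M) (x : ExteriorAlgebra A M) p = x
  rw [DirectSum.decompose_coe, DirectSum.of_eq_same]

theorem pr_coe_ne {p q : ℕ} (h : q ≠ p) (x : ↥(⋀[A]^q M)) : pr (k := k) p (x : ExteriorAlgebra A M) = 0 := by
  change DirectSum.decompose (fun i : ℕ => ⋀[A]^i M) (x : ExteriorAlgebra A M) p = 0
  rw [DirectSum.decompose_coe, DirectSum.of_eq_of_ne _ _ _ (Ne.symm h)]

theorem pr_succ_dE (d : ∀ p : ℕ, ↥(⋀[A]^p M) →ₗ[k] ↥(⋀[A]^(p + 1) M)) (p : ℕ) (v : ExteriorAlgebra A M) :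
    pr (k := k) (p + 1) (dE d v) = d p (pr (k := k) p v) := by
  refine hom_ind (P := fun v => pr (k := k) (p + 1) (dE d v) = d p (pr (k := k) p v))
    (fun q x => ?_) (fun v w hv hw => ?_) v
  · rw [dE_coe]
    by_cases hpq : q = p
    · subst hpq
      rw [pr_coe_same, pr_coe_same]
    · rw [pr_coe_ne (fun h => hpq (Nat.succ_injective h)), pr_coe_ne hpq, map_zero]
  · rw [map_add, map_add, hv, hw, map_add, map_add]

theorem pr_zero_dE (d : ∀ p : ℕ, ↥(⋀[A]^p M) →ₗ[k] ↥(⋀[A]^(p + 1) M)) (v : ExteriorAlgebra A M) :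
    pr (k := k) 0 (dE d v) = 0 := by
  refine hom_ind (P := fun v => pr (k := k) 0 (dE d v) = 0) (fun q x => ?_) (fun v w hv hw => ?_) v
  · rw [dE_coe, pr_coe_ne (Nat.succ_ne_zero q)]
  · rw [map_add, map_add, hv, hw, add_zero]

end graded

section coords

variable {k A : Type u} [Field k] [CommRing A] [Algebra k A] {n : ℕ} (x : Fin n → A)
  (b : Basis (Fin n) A (Ω[A⁄k])) (hb : ∀ i, b i = KaehlerDifferential.D k A (x i))

/-- The dual derivations. -/
noncomputable def der (i : Fin n) : Derivation k A A := (b.coord i).compDer (KaehlerDifferential.D k A)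

theorem der_apply (i : Fin n) (a : A) : der b i a = b.repr (KaehlerDifferential.D k A a) i := rfl

include hb in
theorem der_x (i j : Fin n) : der b i (x j) = if i = j then 1 else 0 := by
  rw [der_apply, ← hb, b.repr_self, Finsupp.single_apply]
  simp only [eq_comm]

include hb in
theorem der_comm (i j : Fin n) (a : A) : der b i (der b j a) = der b j (der b i a) := by
  have h0 : ⁅der b i, der b j⁆.liftKaehlerDifferential = 0 := by
    refine b.ext (fun l => ?_)
    rw [hb, Derivation.liftKaehlerDifferential_comp_D, LinearMap.zero_apply, Derivation.commutator_apply,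
      der_x x b hb, der_x x b hb]
    split_ifs <;> simp
  have h1 := congrArg (fun f => f (KaehlerDifferential.D k A a)) h0
  simp only [Derivation.liftKaehlerDifferential_comp_D, LinearMap.zero_apply, Derivation.commutator_apply] at h1
  exact sub_eq_zero.mp h1

theorem D_eq_sum (a : A) : KaehlerDifferential.D k A a = ∑ i, der b i a • b i := (b.sum_repr _).symm

/-- The words in the `dx_i`. -/
noncomputable def wl (l : List (Fin n)) : ExteriorAlgebra A (Ω[A⁄k]) :=
  (l.map (fun i => ExteriorAlgebra.ι A (b i))).prod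

theorem wl_cons (i : Fin n) (l : List (Fin n)) : wl b (i :: l) = ExteriorAlgebra.ι A (b i) * wl b l := by
  rw [wl, List.map_cons, List.prod_cons]; rfl

theorem wl_append (l l' : List (Fin n)) : wl b (l ++ l') = wl b l * wl b l' := by
  rw [wl, List.map_append, List.prod_append]; rfl

/-- The span of the words. -/
noncomputable def W : Submodule k (ExteriorAlgebra A (Ω[A⁄k])) := Submodule.span k (Set.range (wl b))

theorem wl_mem_W (l : List (Fin n)) : wl b l ∈ W b := Submodule.subset_span ⟨l, rfl⟩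

theorem span_wl : Submodule.span A (Set.range (wl b)) = ⊤ := by
  rw [eq_top_iff]
  intro v _
  induction v using ExteriorAlgebra.induction with
  | algebraMap r =>
    rw [Algebra.algebraMap_eq_smul_one]
    exact Submodule.smul_mem _ _ (Submodule.subset_span ⟨[], by simp [wl]⟩)
  | ι m =>
    rw [← b.sum_repr m, map_sum]
    refine Submodule.sum_mem _ (fun i _ => ?_)
    rw [map_smul]
    exact Submodule.smul_mem _ _ (Submodule.subset_span ⟨[i], by simp [wl]⟩)
  | mul v w hv hw =>
    have h1 := Submodule.mul_mem_mul (hv trivial) (hw trivial)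
    rw [Submodule.span_mul_span] at h1
    refine Submodule.span_mono ?_ h1
    rintro _ ⟨_, ⟨l, rfl⟩, _, ⟨l', rfl⟩, rfl⟩
    exact ⟨l ++ l', wl_append b l l'⟩
  | add v w hv hw => exact add_mem (hv trivial) (hw trivial)

/-- Additive induction on the elements `a • w`. -/
theorem gen_ind {P : ExteriorAlgebra A (Ω[A⁄k]) → Prop} (h0 : ∀ (a : A) (w) (_ : w ∈ W b), P (a • w))
    (hadd : ∀ v w, P v → P w → P (v + w)) (v : ExteriorAlgebra A (Ω[A⁄k])) : P v := by
  have key : ∀ v, ∀ a : A, P (a • v) := by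
    intro v
    have hv : v ∈ Submodule.span A (Set.range (wl b)) := by rw [span_wl]; trivial
    induction hv using Submodule.span_induction with
    | mem x hx =>
      obtain ⟨l, rfl⟩ := hx
      exact fun a => h0 a _ (wl_mem_W b l)
    | zero =>
      intro a
      have := h0 0 0 (zero_mem _)
      rw [smul_zero] at this ⊢
      exact this
    | add v w _ _ hv hw =>
      intro a
      rw [smul_add]
      exact hadd _ _ (hv a) (hw a)
    | smul r v _ hv =>
      intro a
      rw [smul_smul]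
      exact hv _
  have := key v 1
  rwa [one_smul] at this

/-- The word is an `ιMulti`. -/
theorem wl_eq (l : List (Fin n)) : wl b l = ExteriorAlgebra.ιMulti A l.length (fun i => b (l.get i)) := by
  rw [ExteriorAlgebra.ιMulti_apply, wl]
  congr 1
  conv_lhs => rw [← List.ofFn_get l, List.map_ofFn]
  rfl

theorem finite_W : Module.Finite k (W b) := by
  have h1 : W b ≤ Submodule.span k (wl b '' {l | l.Nodup}) := by
    rw [W, Submodule.span_le]
    rintro _ ⟨l, rfl⟩
    by_cases hl : l.Nodup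
    · exact Submodule.subset_span ⟨l, hl, rfl⟩
    · have : wl b l = 0 := by
        rw [List.nodup_iff_injective_get] at hl
        rw [wl_eq]
        obtain ⟨i, j, hij, hne⟩ := by
          simpa [Function.Injective] using hl
        exact AlternatingMap.map_eq_zero_of_eq _ _ (congrArg b (by simpa using hij)) hne
      rw [this]
      exact zero_mem _
  have hfin : Set.Finite {l : List (Fin n) | l.Nodup} := by
    have : Finite {l : List (Fin n) // l.Nodup} := inferInstance
    exact this
  have := Module.Finite.span_of_finite k (hfin.image (wl b))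
  exact Module.Finite.of_injective (Submodule.inclusion h1) (Submodule.inclusion_injective _)

variable (d : ∀ p : ℕ, ↥(⋀[A]^p (Ω[A⁄k])) →ₗ[k] ↥(⋀[A]^(p + 1) (Ω[A⁄k])))
  (hd : DeRham.IsRule (KaehlerDifferential.D k A) d)

include hb hd in
theorem dE_smul_wl (a : A) (l : List (Fin n)) :
    dE d (a • wl b l) = ∑ i, der b i a • (ExteriorAlgebra.ι A (b i) * wl b l) := by
  have h1 : a • wl b l = ((DeRham.gen (KaehlerDifferential.D k A) l.length a (fun i => x (l.get i)) :
      ↥(⋀[A]^l.length (Ω[A⁄k]))) : ExteriorAlgebra A (Ω[A⁄k])) := by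
    rw [wl_eq, DeRham.gen]
    simp only [← hb]
    rfl
  have h2 : ((ιMulti A (l.length + 1) (Fin.cons (KaehlerDifferential.D k A a)
      (fun i => KaehlerDifferential.D k A (x (l.get i)))) : ↥(⋀[A]^(l.length + 1) (Ω[A⁄k]))) :
        ExteriorAlgebra A (Ω[A⁄k])) = ExteriorAlgebra.ι A (KaehlerDifferential.D k A a) * wl b l := by
    rw [ιMulti_apply_coe, ExteriorAlgebra.ιMulti_apply, List.ofFn_succ, List.prod_cons, Fin.cons_zero]
    simp only [Fin.cons_succ, ← hb]
    rw [wl_eq, ExteriorAlgebra.ιMulti_apply]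
  rw [h1, dE_coe, hd, h2, D_eq_sum b a, map_sum, Finset.sum_mul]
  refine Finset.sum_congr rfl (fun i _ => ?_)
  rw [map_smul, smul_mul_assoc]

include hb hd in
theorem dE_smul (a : A) (w : ExteriorAlgebra A (Ω[A⁄k])) (hw : w ∈ W b) :
    dE d (a • w) = ∑ i, der b i a • (ExteriorAlgebra.ι A (b i) * w) := by
  induction hw using Submodule.span_induction with
  | mem w hw =>
    obtain ⟨l, rfl⟩ := hw
    exact dE_smul_wl x b hb d hd a l
  | zero => simp
  | add v w _ _ hv hw =>
    rw [smul_add, map_add, hv, hw, ← Finset.sum_add_distrib]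
    refine Finset.sum_congr rfl (fun i _ => ?_)
    rw [mul_add, smul_add]
  | smul c w _ hw =>
    rw [smul_comm a c w, map_smul, hw, Finset.smul_sum]
    refine Finset.sum_congr rfl (fun i _ => ?_)
    rw [mul_smul_comm, smul_comm]

/-- Multiplication by `dx_i`. -/
noncomputable def e (i : Fin n) : Module.End k (ExteriorAlgebra A (Ω[A⁄k])) :=
  LinearMap.mulLeft k (ExteriorAlgebra.ι A (b i))

theorem e_apply (i : Fin n) (v : ExteriorAlgebra A (Ω[A⁄k])) : e b i v = ExteriorAlgebra.ι A (b i) * v := rfl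

/-- Contraction with the `i`-th coordinate. -/
noncomputable def c (i : Fin n) : Module.End k (ExteriorAlgebra A (Ω[A⁄k])) :=
  (CliffordAlgebra.contractLeft (Q := (0 : QuadraticForm A (Ω[A⁄k]))) (b.coord i)).restrictScalars k

theorem c_smul (i : Fin n) (a : A) (v : ExteriorAlgebra A (Ω[A⁄k])) : c b i (a • v) = a • c b i v :=
  map_smul (CliffordAlgebra.contractLeft (Q := (0 : QuadraticForm A (Ω[A⁄k]))) (b.coord i)) a v

theorem c_e (i j : Fin n) (v : ExteriorAlgebra A (Ω[A⁄k])) :
    c b i (e b j v) = (if i = j then v else 0) - e b j (c b i v) := by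
  have h1 : c b i (e b j v) = b.coord i (b j) • v - e b j (c b i v) :=
    CliffordAlgebra.contractLeft_ι_mul (Q := (0 : QuadraticForm A (Ω[A⁄k]))) (d := b.coord i) (b j) v
  rw [h1, b.coord_apply, b.repr_self, Finsupp.single_apply]
  by_cases h : i = j
  · rw [if_pos h.symm, if_pos h, one_smul]
  · rw [if_neg (Ne.symm h), if_neg h, zero_smul]

theorem c_c (i j : Fin n) (v : ExteriorAlgebra A (Ω[A⁄k])) : c b i (c b j v) = - c b j (c b i v) :=
  CliffordAlgebra.contractLeft_comm (Q := (0 : QuadraticForm A (Ω[A⁄k]))) (d := b.coord i) (d' := b.coord j) v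

theorem e_e (i j : Fin n) (v : ExteriorAlgebra A (Ω[A⁄k])) : e b i (e b j v) = - e b j (e b i v) := by
  rw [e_apply, e_apply, e_apply, e_apply, ← mul_assoc, ← mul_assoc, ← neg_mul,
    eq_neg_of_add_eq_zero_left (ExteriorAlgebra.ι_add_mul_swap (b i) (b j))]

theorem e_smul (i : Fin n) (a : A) (v : ExteriorAlgebra A (Ω[A⁄k])) : e b i (a • v) = a • e b i v := by
  rw [e_apply, e_apply, mul_smul_comm]

theorem e_mem_W (i : Fin n) {w : ExteriorAlgebra A (Ω[A⁄k])} (hw : w ∈ W b) : e b i w ∈ W b := by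
  induction hw using Submodule.span_induction with
  | mem w hw =>
    obtain ⟨l, rfl⟩ := hw
    rw [e_apply, ← wl_cons]
    exact wl_mem_W b _
  | zero => rw [map_zero]; exact zero_mem _
  | add v w _ _ hv hw => rw [map_add]; exact add_mem hv hw
  | smul c w _ hw => rw [map_smul]; exact Submodule.smul_mem _ _ hw

theorem c_mem_W (i : Fin n) {w : ExteriorAlgebra A (Ω[A⁄k])} (hw : w ∈ W b) : c b i w ∈ W b := by
  induction hw using Submodule.span_induction with
  | mem w hw =>
    obtain ⟨l, rfl⟩ := hw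
    induction l with
    | nil =>
      have : c b i (wl b []) = 0 := by
        have h1 : wl b [] = 1 := by simp [wl]
        rw [h1]
        exact CliffordAlgebra.contractLeft_one (Q := (0 : QuadraticForm A (Ω[A⁄k]))) (d := b.coord i)
      rw [this]
      exact zero_mem _
    | cons j l ih =>
      rw [wl_cons, ← e_apply, c_e]
      refine sub_mem ?_ (e_mem_W b j ih)
      split_ifs
      · exact wl_mem_W b l
      · exact zero_mem _
  | zero => rw [map_zero]; exact zero_mem _
  | add v w _ _ hv hw => rw [map_add]; exact add_mem hv hw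
  | smul c w _ hw => rw [map_smul]; exact Submodule.smul_mem _ _ hw

/-- The Lie derivative. -/
noncomputable def L (i : Fin n) : Module.End k (ExteriorAlgebra A (Ω[A⁄k])) := dE d * c b i + c b i * dE d

theorem L_apply (i : Fin n) (v : ExteriorAlgebra A (Ω[A⁄k])) : L b d i v = dE d (c b i v) + c b i (dE d v) := rfl

include hb hd in
theorem L_smul (i : Fin n) (a : A) (w : ExteriorAlgebra A (Ω[A⁄k])) (hw : w ∈ W b) :
    L b d i (a • w) = der b i a • w := by
  rw [L_apply, c_smul, dE_smul x b hb d hd a _ (c_mem_W b i hw), dE_smul x b hb d hd a w hw, map_sum,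
    ← Finset.sum_add_distrib]
  rw [Finset.sum_eq_single i]
  · rw [c_smul, ← e_apply, ← e_apply, c_e, if_pos rfl, ← smul_add, add_sub_cancel]
  · intro j _ hj
    rw [c_smul, ← e_apply, ← e_apply, c_e, if_neg (Ne.symm hj), zero_sub, ← smul_add, add_neg_cancel, smul_zero]
  · intro h
    exact absurd (Finset.mem_univ i) h

include hb hd in
theorem dE_eq (v : ExteriorAlgebra A (Ω[A⁄k])) : dE d v = ∑ i, e b i (L b d i v) := by
  refine gen_ind b (P := fun v => dE d v = ∑ i, e b i (L b d i v)) (fun a w hw => ?_) (fun v w hv hw => ?_) v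
  · rw [dE_smul x b hb d hd a w hw]
    refine Finset.sum_congr rfl (fun i _ => ?_)
    rw [L_smul x b hb d hd i a w hw, e_smul, e_apply]
  · simp only [map_add, hv, hw, Finset.sum_add_distrib]

/-- Multiplication by `x_i`. -/
noncomputable def Xm (i : Fin n) : Module.End k (ExteriorAlgebra A (Ω[A⁄k])) :=
  { toFun := fun v => x i • v
    map_add' := fun v w => smul_add _ _ _
    map_smul' := fun c v => smul_comm _ _ _ }

theorem Xm_apply (i : Fin n) (v : ExteriorAlgebra A (Ω[A⁄k])) : Xm (k := k) x i v = x i • v := rfl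

/-- The filtration. -/
noncomputable def FE (F : ℕ → Submodule k A) (j : ℕ) : Submodule k (ExteriorAlgebra A (Ω[A⁄k])) :=
  Submodule.span k {v | ∃ a ∈ F j, ∃ w ∈ W b, a • w = v}

theorem smul_mem_FE {F : ℕ → Submodule k A} {j : ℕ} {a : A} (ha : a ∈ F j) {w : ExteriorAlgebra A (Ω[A⁄k])}
    (hw : w ∈ W b) : a • w ∈ FE b F j := Submodule.subset_span ⟨a, ha, w, hw, rfl⟩

theorem FE_eq_range (F : ℕ → Submodule k A) (j : ℕ) : ∃ f : (F j) →ₗ[k] (W b) →ₗ[k] ExteriorAlgebra A (Ω[A⁄k]),
    FE b F j ≤ LinearMap.range (TensorProduct.lift f) := by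
  refine ⟨LinearMap.mk₂ k (fun (a : F j) (w : W b) => (a : A) • (w : ExteriorAlgebra A (Ω[A⁄k])))
    (fun a a' w => add_smul _ _ _) (fun c a w => smul_assoc _ _ _) (fun a w w' => smul_add _ _ _)
    (fun c a w => smul_comm _ _ _), ?_⟩
  rw [FE, Submodule.span_le]
  rintro _ ⟨a, ha, w, hw, rfl⟩
  exact ⟨(⟨a, ha⟩ : F j) ⊗ₜ[k] (⟨w, hw⟩ : W b), rfl⟩

theorem grow_FE {m : ℕ} {F : ℕ → Submodule k A} (hF : Grow m F) : Grow m (FE b F) where
  mono i j hij := Submodule.span_mono (fun v ⟨a, ha, w, hw, h⟩ => ⟨a, hF.mono hij ha, w, hw, h⟩)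
  exh v := by
    refine gen_ind b (P := fun v => ∃ j, v ∈ FE b F j) (fun a w hw => ?_) (fun v w ⟨i, hv⟩ ⟨j, hw⟩ => ?_) v
    · obtain ⟨j, hj⟩ := hF.exh a
      exact ⟨j, smul_mem_FE b hj hw⟩
    · have hm : Monotone (FE b F) := fun i j hij =>
        Submodule.span_mono (fun v ⟨a, ha, w, hw, h⟩ => ⟨a, hF.mono hij ha, w, hw, h⟩)
      exact ⟨max i j, add_mem (hm (le_max_left i j) hv) (hm (le_max_right i j) hw)⟩
  fin j := by
    obtain ⟨f, hf⟩ := FE_eq_range b F j
    have := hF.fin j
    have := finite_W b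
    exact Module.Finite.of_injective (Submodule.inclusion hf) (Submodule.inclusion_injective _)
  bound := by
    obtain ⟨C, hC⟩ := hF.bound
    refine ⟨C * finrank k (W b), fun j => ?_⟩
    obtain ⟨f, hf⟩ := FE_eq_range b F j
    have := hF.fin j
    have := finite_W b
    calc finrank k (FE b F j) ≤ finrank k (LinearMap.range (TensorProduct.lift f)) := Submodule.finrank_mono hf
      _ ≤ finrank k (TensorProduct k (F j) (W b)) := LinearMap.finrank_range_le _
      _ = finrank k (F j) * finrank k (W b) := Module.finrank_tensorProduct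
      _ ≤ (C * (j + 1) ^ m) * finrank k (W b) := Nat.mul_le_mul_right _ (hC j)
      _ = C * finrank k (W b) * (j + 1) ^ m := by ring

/-- Extension of a family of operators by zero. -/
noncomputable def ex {E : Type*} [AddCommGroup E] [Module k E] (f : Fin n → Module.End k E) (a : ℕ) :
    Module.End k E := if h : a < n then f ⟨a, h⟩ else 0

theorem ex_lt {E : Type*} [AddCommGroup E] [Module k E] (f : Fin n → Module.End k E) {a : ℕ} (h : a < n) :
    ex f a = f ⟨a, h⟩ := dif_pos h

include hb hd in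
/-- The relations. -/
theorem ops {F : ℕ → Submodule k A} (hX : ∀ i j, ∀ v ∈ F j, x i * v ∈ F (j + 1))
    (hD : ∀ i j, ∀ v ∈ F j, der b i v ∈ F (j + 1)) :
    Ops n (ex (Xm (k := k) x)) (ex (L b d)) (ex (e b)) (ex (c b)) (FE b F) where
  DX i j hi hj v := by
    rw [ex_lt _ hi, ex_lt _ hj]
    refine gen_ind b (P := fun v => L b d ⟨i, hi⟩ (Xm (k := k) x ⟨j, hj⟩ v) =
      Xm (k := k) x ⟨j, hj⟩ (L b d ⟨i, hi⟩ v) + if i = j then v else 0) (fun a w hw => ?_) (fun v w hv hw => ?_) v
    · rw [Xm_apply, smul_smul, L_smul x b hb d hd _ _ _ hw, L_smul x b hb d hd _ _ _ hw, Xm_apply,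
        Derivation.leibniz, der_x x b hb, add_smul, smul_smul, smul_eq_mul, smul_eq_mul]
      congr 1
      by_cases h : i = j
      · subst h
        simp
      · rw [if_neg h, if_neg (fun h' => h (by simpa using h')), mul_zero, zero_smul]
    · simp only [map_add, hv, hw]
      split_ifs <;> abel
  DD i j hi hj v := by
    rw [ex_lt _ hi, ex_lt _ hj]
    refine gen_ind b (P := fun v => L b d ⟨i, hi⟩ (L b d ⟨j, hj⟩ v) = L b d ⟨j, hj⟩ (L b d ⟨i, hi⟩ v))
      (fun a w hw => ?_) (fun v w hv hw => ?_) v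
    · rw [L_smul x b hb d hd _ _ _ hw, L_smul x b hb d hd _ _ _ hw, L_smul x b hb d hd _ _ _ hw,
        L_smul x b hb d hd _ _ _ hw, der_comm x b hb]
    · simp only [map_add, hv, hw]
  De i j hi hj v := by
    rw [ex_lt _ hi, ex_lt _ hj]
    refine gen_ind b (P := fun v => L b d ⟨i, hi⟩ (e b ⟨j, hj⟩ v) = e b ⟨j, hj⟩ (L b d ⟨i, hi⟩ v))
      (fun a w hw => ?_) (fun v w hv hw => ?_) v
    · rw [e_smul, L_smul x b hb d hd _ _ _ hw, L_smul x b hb d hd _ _ _ (e_mem_W b _ hw), e_smul]
    · simp only [map_add, hv, hw]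
  Dc i j hi hj v := by
    rw [ex_lt _ hi, ex_lt _ hj]
    refine gen_ind b (P := fun v => L b d ⟨i, hi⟩ (c b ⟨j, hj⟩ v) = c b ⟨j, hj⟩ (L b d ⟨i, hi⟩ v))
      (fun a w hw => ?_) (fun v w hv hw => ?_) v
    · rw [c_smul, L_smul x b hb d hd _ _ _ hw, L_smul x b hb d hd _ _ _ (c_mem_W b _ hw), c_smul]
    · simp only [map_add, hv, hw]
  Xc i j hi hj v := by
    rw [ex_lt _ hi, ex_lt _ hj, Xm_apply, Xm_apply, c_smul]
  ee i j hi hj v := by
    rw [ex_lt _ hi, ex_lt _ hj, e_e]
  cc i j hi hj v := by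
    rw [ex_lt _ hi, ex_lt _ hj, c_c]
  ce i j hi hj v := by
    rw [ex_lt _ hi, ex_lt _ hj, c_e]
    simp only [Fin.mk.injEq]
  FX i hi j v hv := by
    rw [ex_lt _ hi]
    induction hv using Submodule.span_induction with
    | mem v hv =>
      obtain ⟨a, ha, w, hw, rfl⟩ := hv
      rw [Xm_apply, smul_smul]
      exact smul_mem_FE b (hX _ _ _ ha) hw
    | zero => rw [map_zero]; exact zero_mem _
    | add v w _ _ hv hw => rw [map_add]; exact add_mem hv hw
    | smul c w _ hw => rw [map_smul]; exact Submodule.smul_mem _ _ hw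
  FD i hi j v hv := by
    rw [ex_lt _ hi]
    induction hv using Submodule.span_induction with
    | mem v hv =>
      obtain ⟨a, ha, w, hw, rfl⟩ := hv
      rw [L_smul x b hb d hd _ _ _ hw]
      exact smul_mem_FE b (hD _ _ _ ha) hw
    | zero => rw [map_zero]; exact zero_mem _
    | add v w _ _ hv hw => rw [map_add]; exact add_mem hv hw
    | smul c w _ hw => rw [map_smul]; exact Submodule.smul_mem _ _ hw

include hb hd in
theorem dd_eq : dd n (ex (e b)) (ex (L b d)) = dE d := by
  ext v
  rw [dd_apply, dE_eq x b hb d hd, Finset.sum_range]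
  refine Finset.sum_congr rfl (fun i _ => ?_)
  rw [ex_lt _ i.2, ex_lt _ i.2]

end coords

end K576.AlgOps
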