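import Groth.Agent.DeRhamSh.K853.SigmaSES
import Mathlib.CategoryTheory.Sites.MayerVietorisSquare
import Mathlib.Topology.Sheaves.MayerVietoris

/-!
# Mayer-Vietoris for the module structures on hypercohomology

* `conn`: the connecting map `H^n_{T₁}(K) → H^{n+1}_{T₃}(K)` of a morphism `T₃ → T₁[1]`, linearly;
* `exists_conn`: exactness for a short exact sequence of test objects;
* `finite_sup`: finiteness of `H^{n+1}(U ⊔ V, K)` from `U`, `V` and `H^n(U ⊓ V, K)`.
-/

set_option autoImplicit false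

universe w v u u'

open CategoryTheory CategoryTheory.Limits CategoryTheory.Pretriangulated E1Deg KLinDR

namespace K576.HTMV

section general

variable {A : Type u} [Category.{v} A] [Abelian A] [HasDerivedCategory.{w} A] {R : Type u'} [Ring R]

/-- The connecting map. -/
noncomputable def conn {T₁ T₃ : A} (r : (DerivedCategory.singleFunctor A 0).obj T₃ ⟶
    ((DerivedCategory.singleFunctor A 0).obj T₁)⟦(1 : ℤ)⟧) (K : CochainComplex A ℤ) (ρ : R →+* End K) (n : ℤ) :
    HTρ T₁ K ρ n →ₗ[R] HTρ T₃ K ρ (n + 1) where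
  toFun x := HTρ.toHT.symm (r ≫ (shiftFunctor (DerivedCategory A) (1 : ℤ)).map (HTρ.toHT x) ≫
    (shiftFunctorAdd (DerivedCategory A) n 1).inv.app (DerivedCategory.Q.obj K))
  map_add' x y := by
    rw [map_add, Functor.map_add, Preadditive.add_comp, Preadditive.comp_add, map_add]
  map_smul' a x := by
    change r ≫ (shiftFunctor (DerivedCategory A) (1 : ℤ)).map (HTρ.toHT x ≫
        (shiftFunctor (DerivedCategory A) n).map (DerivedCategory.Q.map (ρ a))) ≫
        (shiftFunctorAdd (DerivedCategory A) n 1).inv.app (DerivedCategory.Q.obj K) =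
      (r ≫ (shiftFunctor (DerivedCategory A) (1 : ℤ)).map (HTρ.toHT x) ≫
        (shiftFunctorAdd (DerivedCategory A) n 1).inv.app (DerivedCategory.Q.obj K)) ≫
        (shiftFunctor (DerivedCategory A) (n + 1)).map (DerivedCategory.Q.map (ρ a))
    have h := (shiftFunctorAdd (DerivedCategory A) n 1).inv.naturality (DerivedCategory.Q.map (ρ a))
    rw [Category.assoc, Category.assoc, ← h, Functor.map_comp, Category.assoc]
    rfl

theorem exists_conn {S : ShortComplex A} (hS : S.ShortExact) (K : CochainComplex A ℤ) (ρ : R →+* End K) (n : ℤ)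
    (x : HTρ S.X₃ K ρ (n + 1)) (hx : HTρpre S.g K ρ (n + 1) x = 0) :
    ∃ y : HTρ S.X₁ K ρ n, conn hS.singleδ K ρ n y = x := by
  have hT : Triangle.mk ((DerivedCategory.singleFunctor A 0).map S.f) ((DerivedCategory.singleFunctor A 0).map S.g)
      hS.singleδ ∈ distTriang _ := hS.singleTriangle_distinguished
  have hx' : (DerivedCategory.singleFunctor A 0).map S.g ≫ HTρ.toHT x = 0 := hx
  obtain ⟨g, hg⟩ : ∃ g : ((DerivedCategory.singleFunctor A 0).obj S.X₁)⟦(1 : ℤ)⟧ ⟶
      (shiftFunctor (DerivedCategory A) (n + 1)).obj (DerivedCategory.Q.obj K),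
      HTρ.toHT x = hS.singleδ ≫ g := Triangle.yoneda_exact₃ _ hT (HTρ.toHT x) hx'
  obtain ⟨y, hy⟩ := (shiftFunctor (DerivedCategory A) (1 : ℤ)).map_surjective
    (g ≫ (shiftFunctorAdd (DerivedCategory A) n 1).hom.app (DerivedCategory.Q.obj K))
  refine ⟨HTρ.toHT.symm y, ?_⟩
  apply HTρ.toHT.injective
  change hS.singleδ ≫ (shiftFunctor (DerivedCategory A) (1 : ℤ)).map y ≫
    (shiftFunctorAdd (DerivedCategory A) n 1).inv.app (DerivedCategory.Q.obj K) = HTρ.toHT x
  rw [hy, hg, Category.assoc, Iso.hom_inv_id_app, Category.comp_id]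

end general

section finite

variable {A : Type u} [Category.{v} A] [Abelian A] [HasDerivedCategory.{w} A] {R : Type u'} [CommRing R]
  [IsNoetherianRing R]

theorem finite_of_shortExact {A₁ B₂ B₃ C : A} (f : A₁ ⟶ B₂ ⊞ B₃) (a₂ : B₂ ⟶ C) (a₃ : B₃ ⟶ C)
    (w : f ≫ biprod.desc a₂ a₃ = 0) (hS : (ShortComplex.mk _ _ w).ShortExact)
    (K : CochainComplex A ℤ) (ρ : R →+* End K) (n : ℤ)
    (h₁ : Module.Finite R (HTρ A₁ K ρ n)) (h₂ : Module.Finite R (HTρ B₂ K ρ (n + 1)))
    (h₃ : Module.Finite R (HTρ B₃ K ρ (n + 1))) : Module.Finite R (HTρ C K ρ (n + 1)) := by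
  refine K853.SigmaSES.finite_of_exact (conn hS.singleδ K ρ n)
    ((HTρpre a₂ K ρ (n + 1)).prod (HTρpre a₃ K ρ (n + 1))) (fun x hx => ?_)
  refine exists_conn hS K ρ n x ?_
  have hx2 : HTρpre a₂ K ρ (n + 1) x = 0 := congrArg Prod.fst hx
  have hx3 : HTρpre a₃ K ρ (n + 1) x = 0 := congrArg Prod.snd hx
  have h2 : (DerivedCategory.singleFunctor A 0).map a₂ ≫ HTρ.toHT x = 0 := hx2
  have h3 : (DerivedCategory.singleFunctor A 0).map a₃ ≫ HTρ.toHT x = 0 := hx3
  change (DerivedCategory.singleFunctor A 0).map (biprod.desc a₂ a₃) ≫ HTρ.toHT x = 0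
  have h5 : (DerivedCategory.singleFunctor A 0).map (biprod.desc a₂ a₃) =
      (DerivedCategory.singleFunctor A 0).map biprod.fst ≫ (DerivedCategory.singleFunctor A 0).map a₂ +
      (DerivedCategory.singleFunctor A 0).map biprod.snd ≫ (DerivedCategory.singleFunctor A 0).map a₃ := by
    rw [← Functor.map_comp, ← Functor.map_comp, ← Functor.map_add]
    congr 1
    ext <;> simp
  rw [h5, Preadditive.add_comp, Category.assoc, Category.assoc, h2, h3, comp_zero, comp_zero, add_zero]

end finite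

section opens

open TopologicalSpace

variable {X : Type u} [TopologicalSpace X]
  [HasDerivedCategory.{w} (Sheaf (Opens.grothendieckTopology X) AddCommGrpCat.{u})] {R : Type u'} [CommRing R]
  [IsNoetherianRing R]

theorem finite_sup (K : CochainComplex (Sheaf (Opens.grothendieckTopology X) AddCommGrpCat.{u}) ℤ)
    (ρ : R →+* End K) (U V : Opens X) (n : ℤ)
    (h₁ : Module.Finite R (HTρ (CohCx.freeSheaf (Opens.grothendieckTopology X) (U ⊓ V)) K ρ n))
    (h₂ : Module.Finite R (HTρ (CohCx.freeSheaf (Opens.grothendieckTopology X) U) K ρ (n + 1)))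
    (h₃ : Module.Finite R (HTρ (CohCx.freeSheaf (Opens.grothendieckTopology X) V) K ρ (n + 1))) :
    Module.Finite R (HTρ (CohCx.freeSheaf (Opens.grothendieckTopology X) (U ⊔ V)) K ρ (n + 1)) :=
  finite_of_shortExact _ _ _ _ (Opens.mayerVietorisSquare U V).shortComplex_shortExact K ρ n h₁ h₂ h₃

end opens

end K576.HTMV
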