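import Groth.Agent.DeRhamSh.K853.AffCompare
import Groth.Agent.DeRhamSh.K853.Terms
import Groth.Agent.CurvesB.SmoothCurveFacts
import Groth.Agent.Picfga.CurveRelDim
import Groth.Agent.DeRhamSh.K576.AlgFin
import Groth.Agent.DeRhamSh.K576.HTMV

/-!
# Finiteness of the de Rham cohomology of smooth schemes over a field of characteristic zero

No resolution of singularities: locally the de Rham complex is a Koszul complex of commuting Weyl pairs on a module
of polynomial growth (`AlgFin.finite_H`), and the general case follows by Mayer-Vietoris.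
-/

set_option autoImplicit false

universe w u

open CategoryTheory CategoryTheory.Limits AlgebraicGeometry Opposite TopologicalSpace exteriorPower

namespace K576.DRFinite

open Groth.Agent Groth.Agent.Lefpen.H721.OmegaSec Groth.Agent.CurvesB.OmegaStalkDict
open K853.CxAff

/-- Mayer-Vietoris induction over finite unions of opens from a family stable under intersection. -/
theorem sup_induction {X : Type u} [TopologicalSpace X] {P B : Opens X → Prop}
    (hB : ∀ U V, B U → B V → B (U ⊓ V)) (hP : ∀ U, B U → P U) (hbot : P ⊥)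
    (hMV : ∀ U V, P U → P V → P (U ⊓ V) → P (U ⊔ V)) :
    ∀ (m : ℕ) (S : Finset (Opens X)), S.card ≤ m → (∀ U ∈ S, B U) → P (S.sup id) := by
  classical
  intro m
  induction m with
  | zero =>
    intro S hS _
    rw [Finset.card_eq_zero.mp (Nat.le_zero.mp hS), Finset.sup_empty]
    exact hbot
  | succ m ih =>
    intro S hS hSB
    rcases S.eq_empty_or_nonempty with rfl | ⟨U, hU⟩
    · rw [Finset.sup_empty]
      exact hbot
    · have hcard : (S.erase U).card ≤ m := by
        have := Finset.card_erase_of_mem hU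
        omega
      have h1 : S.sup id = U ⊔ (S.erase U).sup id := by
        conv_lhs => rw [← Finset.insert_erase hU, Finset.sup_insert]
        rfl
      rw [h1]
      refine hMV _ _ (hP _ (hSB U hU)) (ih _ hcard (fun V hV => hSB V (Finset.mem_of_mem_erase hV))) ?_
      have h2 : U ⊓ (S.erase U).sup id = ((S.erase U).image (fun V => U ⊓ V)).sup id := by
        rw [Finset.sup_inf_distrib_left, Finset.sup_image]
        rfl
      rw [h2]
      refine ih _ (Finset.card_image_le.trans hcard) (fun V hV => ?_)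
      obtain ⟨V', hV', rfl⟩ := Finset.mem_image.mp hV
      exact hB _ _ (hSB U hU) (hSB V' (Finset.mem_of_mem_erase hV'))

section chart

variable {k : Type u} [Field k] {X : Scheme.{u}} (f : X ⟶ Spec (CommRingCat.of k))

/-- A chart: an affine open whose ring of functions is standard smooth over `k`. -/
def IsChart (U : X.Opens) : Prop := IsAffineOpen U ∧ ∃ n : ℕ, (secHom f U).IsStandardSmoothOfRelativeDimension n

theorem exists_isChart [Smooth f] (x : X) : ∃ U : X.Opens, x ∈ U ∧ IsChart f U := by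
  obtain ⟨V, hV, U, hU, hx, e, h⟩ := Smooth.exists_isStandardSmooth f x
  obtain ⟨d, hs⟩ := Picfga.CurveRelDim.exists_relativeDimension h
  have hVtop : V = ⊤ := by
    rw [eq_top_iff]
    intro y _
    have : y = f x := Subsingleton.elim (α := PrimeSpectrum k) _ _
    rw [this]
    exact e hx
  subst hVtop
  refine ⟨U, hx, hU, d, ?_⟩
  have h1 : (Scheme.ΓSpecIso (CommRingCat.of k)).inv.hom.IsStandardSmoothOfRelativeDimension 0 :=
    RingHom.IsStandardSmoothOfRelativeDimension.equiv
      (Scheme.ΓSpecIso (CommRingCat.of k)).commRingCatIsoToRingEquiv.symm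
  rw [CurvesB.SmoothCurveFacts.secHom_eq_comp]
  have h4 := hs.comp h1
  rw [add_zero] at h4
  exact h4

theorem IsChart.basicOpen {f : X ⟶ Spec (CommRingCat.of k)} {U : X.Opens} (h : IsChart f U) (s : Γ(X, U)) :
    IsChart f (X.basicOpen s) := by
  obtain ⟨hU, n, hn⟩ := h
  refine ⟨hU.basicOpen s, n, ?_⟩
  have hloc := hU.isLocalization_basicOpen s
  have h0 : (algebraMap Γ(X, U) Γ(X, X.basicOpen s)).IsStandardSmoothOfRelativeDimension 0 :=
    RingHom.IsStandardSmoothOfRelativeDimension.algebraMap_isLocalizationAway s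
  have h2 : secHom f (X.basicOpen s) = (algebraMap Γ(X, U) Γ(X, X.basicOpen s)).comp (secHom f U) := by
    ext a
    exact (res_secHom f (X.basicOpen_le s) a).symm
  rw [h2]
  have h4 := h0.comp hn
  rw [zero_add] at h4
  exact h4

end chart

section main

variable {k : Type u} [Field k] [CharZero k] {X : Scheme.{u}} (f : X ⟶ Spec (CommRingCat.of k)) [QuasiSeparated f]
  (D : DeRhamSh.OmegaCx f)
  [HasDerivedCategory.{w} (Sheaf (Opens.grothendieckTopology X) AddCommGrpCat.{u})]
  (h : KLinDR.TermwiseLinear (Coh.toGlobal f) D.K D.term D.iso)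

/-- Finiteness over an open. -/
def Fin (U : X.Opens) : Prop := ∀ n : ℤ, Module.Finite k (KLinDR.HdRU (Coh.toGlobal f) D h n U)

theorem fin_of_ring (U : X.Opens) (hU : IsAffineOpen U)
    (hfin : ∀ (d : ∀ p : ℕ, ↥(⋀[SA f U]^p (Ω[SA f U⁄k])) →ₗ[k] ↥(⋀[SA f U]^(p + 1) (Ω[SA f U⁄k]))),
      DeRham.IsRule (KaehlerDifferential.D k (SA f U)) d → ∀ p, Module.Finite k (K853.SeqCoh.H d p)) :
    Fin f D h U := by
  intro n
  rcases Int.le_total 0 n with hn | hn
  · lift n to ℕ using hn
    obtain ⟨e, d, hd, -, -⟩ := exists_ringModel f D ⟨U, hU⟩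
    obtain ⟨e1⟩ := K853.AffCompare.nonempty_linearEquiv f D ⟨U, hU⟩ d hd.1 n
    have := hfin d hd.1 n
    exact Module.Finite.equiv e1
  · rcases hn.eq_or_lt with rfl | hn
    · obtain ⟨e, d, hd, -, -⟩ := exists_ringModel f D ⟨U, hU⟩
      obtain ⟨e1⟩ := K853.AffCompare.nonempty_linearEquiv f D ⟨U, hU⟩ d hd.1 0
      have := hfin d hd.1 0
      exact Module.Finite.equiv e1
    · have : Subsingleton (E1Deg.HT (CohCx.freeSheaf (Opens.grothendieckTopology X) U) D.KZ n) :=
        K853.HTExact.subsingleton_HT_of_isGE _ _ 0 n hn (K853.HdRBasic.isZero_KZ_X D)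
      have : Subsingleton (KLinDR.HdRU (Coh.toGlobal f) D h n U) := this
      infer_instance

theorem fin_of_isChart (U : X.Opens) (hU : IsChart f U) : Fin f D h U := by
  obtain ⟨hU, n, hn⟩ := hU
  refine fin_of_ring f D h U hU (fun d hd p => ?_)
  have : Algebra.IsStandardSmoothOfRelativeDimension n k (SA f U) := by
    have h1 : (algebraMap k (SA f U)).IsStandardSmoothOfRelativeDimension n := hn
    rwa [RingHom.isStandardSmoothOfRelativeDimension_algebraMap] at h1
  exact AlgFin.finite_H k (SA f U) n d hd p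

theorem fin_bot : Fin f D h (⊥ : X.Opens) := by
  refine fin_of_ring f D h ⊥ (isAffineOpen_bot X) (fun d hd p => ?_)
  have : Subsingleton (SA f (⊥ : X.Opens)) := by
    change Subsingleton Γ(X, ⊥)
    infer_instance
  have : Subsingleton ↥(⋀[SA f (⊥ : X.Opens)]^p (Ω[SA f (⊥ : X.Opens)⁄k])) :=
    Module.subsingleton (SA f (⊥ : X.Opens)) _
  infer_instance

theorem fin_sup (U V : X.Opens) (hU : Fin f D h U) (hV : Fin f D h V) (hUV : Fin f D h (U ⊓ V)) :
    Fin f D h (U ⊔ V) := by
  intro n
  obtain ⟨m, rfl⟩ : ∃ m, n = m + 1 := ⟨n - 1, by omega⟩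
  exact HTMV.finite_sup D.KZ (KLinDR.scalar h) U V m (hUV m) (hU (m + 1)) (hV (m + 1))

/-- Every quasi-compact open of a chart. -/
theorem fin_of_le (U W : X.Opens) (hU : IsChart f U) (hW : W ≤ U) (hWc : IsCompact (W : Set X)) : Fin f D h W := by
  classical
  have h1 : ∀ x : W, ∃ s : Γ(X, U), X.basicOpen s ≤ W ∧ x.1 ∈ X.basicOpen s := fun x => by
    obtain ⟨s, hs, hxs⟩ := hU.1.exists_basicOpen_le (V := W) x (hW x.2)
    exact ⟨s, hs, hxs⟩
  choose s hs hxs using h1
  obtain ⟨t, ht⟩ := hWc.elim_finite_subcover (fun x : W => ((X.basicOpen (s x) : X.Opens) : Set X))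
    (fun x => (X.basicOpen (s x)).2) (fun x hx => Set.mem_iUnion.mpr ⟨⟨x, hx⟩, hxs ⟨x, hx⟩⟩)
  have h2 : W = (t.image (fun x => X.basicOpen (s x))).sup id := by
    apply le_antisymm
    · intro x hx
      obtain ⟨i, hi, hxi⟩ := Set.mem_iUnion₂.mp (ht hx)
      exact (Finset.le_sup (f := id) (Finset.mem_image_of_mem (fun x => X.basicOpen (s x)) hi) :
        X.basicOpen (s i) ≤ _) hxi
    · refine Finset.sup_le (fun V hV => ?_)
      obtain ⟨i, _, rfl⟩ := Finset.mem_image.mp hV
      exact hs i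
  rw [h2]
  refine sup_induction (P := Fin f D h) (B := fun V => ∃ s : Γ(X, U), V = X.basicOpen s) ?_ ?_
    (fin_bot f D h) (fin_sup f D h) _ _ le_rfl ?_
  · rintro _ _ ⟨s, rfl⟩ ⟨t, rfl⟩
    exact ⟨s * t, (X.basicOpen_mul s t).symm⟩
  · rintro _ ⟨s, rfl⟩
    exact fin_of_isChart f D h _ (hU.basicOpen s)
  · intro V hV
    obtain ⟨i, _, rfl⟩ := Finset.mem_image.mp hV
    exact ⟨_, rfl⟩

/-- **Finiteness of the de Rham cohomology.** -/
theorem fin_top [QuasiCompact f] [Smooth f] (W : X.Opens) : Fin f D h W := by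
  classical
  have hN : IsNoetherian X := K853.Terms.isNoetherian_of_field f
  have hNs : NoetherianSpace X := inferInstance
  choose U hxU hU using exists_isChart f
  obtain ⟨t, ht⟩ := (NoetherianSpace.isCompact (W : Set X)).elim_finite_subcover (fun x : X => (U x : Set X))
    (fun x => (U x).2) (fun x hx => Set.mem_iUnion.mpr ⟨x, hxU x⟩)
  have h2 : W = (t.image (fun x => W ⊓ U x)).sup id := by
    apply le_antisymm
    · intro x hx
      obtain ⟨i, hi, hxi⟩ := Set.mem_iUnion₂.mp (ht hx)
      exact (Finset.le_sup (f := id) (Finset.mem_image_of_mem (fun x => W ⊓ U x) hi) :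
        W ⊓ U i ≤ _) ⟨hx, hxi⟩
    · refine Finset.sup_le (fun V hV => ?_)
      obtain ⟨i, _, rfl⟩ := Finset.mem_image.mp hV
      exact inf_le_left
  rw [h2]
  refine sup_induction (P := Fin f D h) (B := fun V => ∃ U, IsChart f U ∧ V ≤ U) ?_ ?_
    (fin_bot f D h) (fin_sup f D h) _ _ le_rfl ?_
  · rintro V V' ⟨U, hU, hV⟩ _
    exact ⟨U, hU, inf_le_left.trans hV⟩
  · rintro V ⟨U, hU, hV⟩
    exact fin_of_le f D h U V hU hV (NoetherianSpace.isCompact _)
  · intro V hV
    obtain ⟨i, _, rfl⟩ := Finset.mem_image.mp hV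
    exact ⟨U i, hU i, inf_le_right⟩

end main

end K576.DRFinite
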