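import Mathlib

/-!
# Growth of kernels and cokernels of a Weyl pair (characteristic zero)

`V` a vector space over a field `k` of characteristic zero, with endomorphisms `D`, `X` such that
`D X - X D = 1`.

* `eq_zero_of_sum_pow_X`: the powers of `X` are independent over `ker D`;
* `eq_zero_of_sum_pow_D`: the powers of `D` are independent over a complement of `range D`.
-/

set_option autoImplicit false

universe u v

namespace K576.Weyl

open Module

variable {k : Type u} [Field k] {V : Type v} [AddCommGroup V] [Module k V]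

section pair

variable (D X : End k V) (h : ∀ v, D (X v) = X (D v) + v)

include h in
theorem D_pow_X (i : ℕ) (v : V) : D ((X ^ (i + 1)) v) = (X ^ (i + 1)) (D v) + (i + 1 : k) • (X ^ i) v := by
  induction i generalizing v with
  | zero => simp [h]
  | succ i ih =>
    rw [pow_succ X (i + 1), Module.End.mul_apply, Module.End.mul_apply, ih, h, map_add]
    rw [← Module.End.mul_apply (X ^ i) X, ← pow_succ, add_assoc]
    congr 1
    push_cast
    module

include h in
/-- The powers of `X` are independent over `ker D`. -/
theorem eq_zero_of_sum_pow_X [CharZero k] (j : ℕ) (m : ℕ → V) (hm : ∀ l, D (m l) = 0)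
    (h0 : ∑ l ∈ Finset.range j, (X ^ l) (m l) = 0) : ∀ l < j, m l = 0 := by
  induction j generalizing m with
  | zero => intro l hl; omega
  | succ j ih =>
    have key : ∀ l < j, m (l + 1) = 0 := by
      intro l hl
      have h1 := congrArg D h0
      rw [Finset.sum_range_succ', map_add, map_sum, map_zero] at h1
      simp only [pow_zero, Module.End.one_apply, hm, add_zero, D_pow_X D X h, map_zero, zero_add] at h1
      have h2 := ih (fun l => ((l : k) + 1) • m (l + 1)) (fun l => by simp [hm]) (by
        simpa only [map_smul] using h1) l hl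
      have h3 : ((l : k) + 1) ≠ 0 := by exact_mod_cast Nat.succ_ne_zero l
      exact (smul_eq_zero.mp h2).resolve_left h3
    intro l hl
    rcases l with _ | l
    · rw [Finset.sum_range_succ', Finset.sum_eq_zero (fun l hl => by
        rw [key l (Finset.mem_range.mp hl), map_zero]), zero_add] at h0
      simpa using h0
    · exact key l (by omega)

include h in
theorem X_pow_D_pow (i : ℕ) (v : V) : ∃ w, (X ^ i) ((D ^ i) v) = ((-1 : k) ^ i * (i.factorial : k)) • v + D w := by
  induction i with
  | zero => exact ⟨0, by simp⟩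
  | succ i ih =>
    obtain ⟨w, hw⟩ := ih
    refine ⟨(X ^ (i + 1)) ((D ^ i) v) - ((i : k) + 1) • w, ?_⟩
    rw [map_sub, D_pow_X D X h, pow_succ' D, Module.End.mul_apply, hw, map_smul, Nat.factorial_succ]
    push_cast
    module

include h in
/-- The powers of `D` are independent over a subspace meeting `range D` in zero. -/
theorem eq_zero_of_sum_pow_D [CharZero k] (j : ℕ) (m : ℕ → V) (hm : ∀ l, (∃ w, D w = m l) → m l = 0)
    (h0 : ∑ l ∈ Finset.range j, (D ^ l) (m l) = 0) : ∀ l < j, m l = 0 := by
  intro l
  induction l using Nat.strong_induction_on with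
  | _ l ih =>
    intro hl
    obtain ⟨t, rfl⟩ : ∃ t, j = (l + 1) + t := ⟨j - (l + 1), by omega⟩
    rw [Finset.sum_range_add, Finset.sum_range_succ, Finset.sum_eq_zero (fun i hi => by
      rw [ih i (Finset.mem_range.mp hi) (by have := Finset.mem_range.mp hi; omega), map_zero]), zero_add] at h0
    have h1 := congrArg (X ^ l) h0
    rw [map_add, map_sum, map_zero] at h1
    obtain ⟨w, hw⟩ := X_pow_D_pow D X h l (m l)
    have h2 : ∀ i : ℕ, ∃ w, (X ^ l) ((D ^ (l + 1 + i)) (m (l + 1 + i))) = D w := by
      intro i
      obtain ⟨w', hw'⟩ := X_pow_D_pow D X h l ((D ^ (i + 1)) (m (l + 1 + i)))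
      refine ⟨((-1 : k) ^ l * (l.factorial : k)) • (D ^ i) (m (l + 1 + i)) + w', ?_⟩
      rw [map_add, map_smul, ← Module.End.mul_apply D (D ^ i), ← pow_succ', ← hw', ← Module.End.mul_apply (D ^ l),
        ← pow_add, show l + (i + 1) = l + 1 + i by omega]
    choose g hg using h2
    simp only [hg, hw, ← map_sum] at h1
    have hc : ((-1 : k) ^ l * (l.factorial : k)) ≠ 0 :=
      mul_ne_zero (pow_ne_zero _ (neg_ne_zero.mpr one_ne_zero)) (by exact_mod_cast l.factorial_ne_zero)
    refine hm l ⟨-(((-1 : k) ^ l * (l.factorial : k))⁻¹ • (w + ∑ i ∈ Finset.range t, g i)), ?_⟩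
    rw [map_neg, map_smul, map_add, neg_eq_iff_add_eq_zero, ← smul_right_injective V hc |>.eq_iff]
    simp only [smul_add, smul_smul, mul_inv_cancel₀ hc, one_smul, smul_zero]
    rw [← h1]
    abel

end pair

end K576.Weyl
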