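import Groth.Agent.DeRhamSh.K576.Weyl

/-!
# Growth of filtrations and Weyl pairs

`Grow n F`: an increasing exhaustive filtration of a vector space by finite dimensional subspaces with
`dim F_j ≤ C (j + 1) ^ n`.  For a Weyl pair `(D, X)` with `D F_j, X F_j ≤ F_(j+1)` the kernel and the
cokernel of `D` have growth one less.
-/

set_option autoImplicit false

universe u v

namespace K576.Weyl

open Module

variable {k : Type u} [Field k] {V : Type v} [AddCommGroup V] [Module k V]

/-- An increasing exhaustive filtration by finite dimensional subspaces of polynomial growth `n`. -/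
structure Grow (n : ℕ) (F : ℕ → Submodule k V) : Prop where
  mono : Monotone F
  exh : ∀ v, ∃ j, v ∈ F j
  fin : ∀ j, Module.Finite k (F j)
  bound : ∃ C : ℕ, ∀ j, finrank k (F j) ≤ C * (j + 1) ^ n

theorem Grow.comap {n : ℕ} {F : ℕ → Submodule k V} (hF : Grow n F) (S : Submodule k V) :
    Grow n (fun j => (F j).comap S.subtype) where
  mono i j hij := Submodule.comap_mono (hF.mono hij)
  exh v := hF.exh v
  fin j := by
    have := hF.fin j
    refine Module.Finite.of_injective (((S.subtype).restrict (p := (F j).comap S.subtype) (q := F j)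
      (fun v hv => hv))) ?_
    intro v w hvw
    have := congrArg Subtype.val hvw
    exact Subtype.ext (Subtype.ext this)
  bound := by
    obtain ⟨C, hC⟩ := hF.bound
    refine ⟨C, fun j => le_trans ?_ (hC j)⟩
    have := hF.fin j
    refine LinearMap.finrank_le_finrank_of_injective (f := ((S.subtype).restrict (p := (F j).comap S.subtype) (q := F j)
      (fun v hv => hv))) ?_
    intro v w hvw
    have := congrArg Subtype.val hvw
    exact Subtype.ext (Subtype.ext this)

/-- The numerical step. -/
theorem num_step {n x j C : ℕ} (h : (j + 1) * x ≤ C * (2 * j + 1) ^ (n + 1)) :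
    x ≤ (C * 2 ^ (n + 1)) * (j + 1) ^ n := by
  have h1 : (2 * j + 1) ^ (n + 1) ≤ (2 * (j + 1)) ^ (n + 1) := Nat.pow_le_pow_left (by omega) _
  have h2 : (j + 1) * x ≤ (j + 1) * ((C * 2 ^ (n + 1)) * (j + 1) ^ n) :=
    calc (j + 1) * x ≤ C * (2 * j + 1) ^ (n + 1) := h
      _ ≤ C * (2 * (j + 1)) ^ (n + 1) := Nat.mul_le_mul_left _ h1
      _ = _ := by rw [mul_pow, pow_succ (j + 1)]; ring
  exact Nat.le_of_mul_le_mul_left h2 (by omega)

theorem pow_mem {F : ℕ → Submodule k V} {T : End k V} (hT : ∀ j, ∀ v ∈ F j, T v ∈ F (j + 1)) (i j : ℕ)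
    (v : V) (hv : v ∈ F j) : (T ^ i) v ∈ F (j + i) := by
  induction i with
  | zero => simpa using hv
  | succ i ih =>
    rw [pow_succ', Module.End.mul_apply]
    exact hT _ _ ih

/-- If the first `j + 1` powers of `T` are independent over `M ≤ F_j` then `(j + 1) dim M ≤ dim F_(2j)`. -/
theorem mul_finrank_le {F : ℕ → Submodule k V} (hmono : Monotone F) (j : ℕ) (hfin : Module.Finite k (F (2 * j)))
    {T : End k V} (hT : ∀ j, ∀ v ∈ F j, T v ∈ F (j + 1)) (M : Submodule k V) (hM : M ≤ F j)
    (hind : ∀ m : ℕ → V, (∀ l, m l ∈ M) → ∑ l ∈ Finset.range (j + 1), (T ^ l) (m l) = 0 → ∀ l < j + 1, m l = 0) :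
    (j + 1) * finrank k M ≤ finrank k (F (2 * j)) := by
  have hMfin : Module.Finite k M := by
    have : Module.Finite k (F j) := by
      have := hfin
      exact Module.Finite.of_injective (Submodule.inclusion (hmono (by omega : j ≤ 2 * j)))
        (Submodule.inclusion_injective _)
    exact Module.Finite.of_injective (Submodule.inclusion hM) (Submodule.inclusion_injective _)
  let g : (Fin (j + 1) → M) →ₗ[k] F (2 * j) :=
    { toFun := fun m => ⟨∑ l : Fin (j + 1), (T ^ (l : ℕ)) (m l : V), Submodule.sum_mem _ (fun l _ =>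
        hmono (by have := l.2; omega) (pow_mem hT l j _ (hM (m l).2)))⟩
      map_add' := fun m m' => Subtype.ext (by
        simp [Finset.sum_add_distrib])
      map_smul' := fun a m => Subtype.ext (by
        simp [Finset.smul_sum]) }
  have hg : Function.Injective g := by
    rw [← LinearMap.ker_eq_bot, LinearMap.ker_eq_bot']
    intro m hm
    have h1 : ∑ l : Fin (j + 1), (T ^ (l : ℕ)) (m l : V) = 0 := congrArg Subtype.val hm
    have h2 := hind (fun l => if hl : l < j + 1 then (m ⟨l, hl⟩ : V) else 0) (fun l => by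
      by_cases hl : l < j + 1
      · simp [hl]
      · simp [hl]) (by
        rw [Finset.sum_range, ← h1]
        exact Finset.sum_congr rfl (fun l _ => by rw [dif_pos l.2]))
    funext l
    have h3 := h2 l l.2
    simp only [l.2, dite_true] at h3
    exact Subtype.ext h3
  have h4 := LinearMap.finrank_le_finrank_of_injective hg
  rwa [Module.finrank_pi_fintype, Finset.sum_const, Finset.card_univ, Fintype.card_fin, smul_eq_mul] at h4

variable [CharZero k]

/-- The kernel of `D` has growth one less. -/
theorem Grow.ker {n : ℕ} {F : ℕ → Submodule k V} (hF : Grow (n + 1) F) {D X : End k V}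
    (h : ∀ v, D (X v) = X (D v) + v) (hX : ∀ j, ∀ v ∈ F j, X v ∈ F (j + 1)) :
    Grow n (fun j => (F j).comap (LinearMap.ker D).subtype) where
  mono := (hF.comap _).mono
  exh := (hF.comap _).exh
  fin := (hF.comap _).fin
  bound := by
    obtain ⟨C, hC⟩ := hF.bound
    refine ⟨C * 2 ^ (n + 1), fun j => ?_⟩
    have h1 := mul_finrank_le hF.mono j (hF.fin _) hX (F j ⊓ LinearMap.ker D) inf_le_left (fun m hm h0 =>
      eq_zero_of_sum_pow_X D X h (j + 1) m (fun l => (hm l).2) h0)
    have h2 : finrank k ((F j).comap (LinearMap.ker D).subtype) = finrank k ↥(F j ⊓ LinearMap.ker D) := by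
      rw [← LinearEquiv.finrank_eq (Submodule.comapSubtypeEquivOfLe (p := F j ⊓ LinearMap.ker D) inf_le_right)]
      have h3 : (F j).comap (LinearMap.ker D).subtype = (F j ⊓ LinearMap.ker D).comap (LinearMap.ker D).subtype := by
        ext v
        simp
      rw [h3]
    rw [h2]
    exact num_step (h1.trans (hC _))

/-- The cokernel of `D` has growth one less. -/
theorem Grow.coker {n : ℕ} {F : ℕ → Submodule k V} (hF : Grow (n + 1) F) {D X : End k V}
    (h : ∀ v, D (X v) = X (D v) + v) (hD : ∀ j, ∀ v ∈ F j, D v ∈ F (j + 1)) :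
    Grow n (fun j => (F j).map (LinearMap.range D).mkQ) where
  mono i j hij := Submodule.map_mono (hF.mono hij)
  exh v := by
    obtain ⟨v, rfl⟩ := Submodule.mkQ_surjective _ v
    obtain ⟨j, hj⟩ := hF.exh v
    exact ⟨j, Submodule.mem_map_of_mem hj⟩
  fin j := by
    have := hF.fin j
    exact Module.Finite.map _ _
  bound := by
    obtain ⟨C, hC⟩ := hF.bound
    refine ⟨C * 2 ^ (n + 1), fun j => ?_⟩
    have := hF.fin j
    -- a complement of `range D ⊓ F j` in `F j`
    obtain ⟨M', hM'⟩ := Submodule.exists_isCompl ((LinearMap.range D).comap (F j).subtype)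
    have e := (Submodule.quotientEquivOfIsCompl _ _ hM')
    let M : Submodule k V := M'.map (F j).subtype
    have hMF : M ≤ F j := by
      rintro _ ⟨m, _, rfl⟩
      exact m.2
    have hMD : ∀ m ∈ M, (∃ w, D w = m) → m = 0 := by
      rintro _ ⟨m, hm, rfl⟩ ⟨w, hw⟩
      have h3 : m ∈ (LinearMap.range D).comap (F j).subtype := ⟨w, hw⟩
      have h4 : m ∈ (LinearMap.range D).comap (F j).subtype ⊓ M' := ⟨h3, hm⟩
      rw [hM'.inf_eq_bot] at h4
      simpa using h4
    have h1 := mul_finrank_le hF.mono j (hF.fin _) hD M hMF (fun m hm h0 =>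
      eq_zero_of_sum_pow_D D X h (j + 1) m (fun l => hMD _ (hm l)) h0)
    have h2 : finrank k ((F j).map (LinearMap.range D).mkQ) ≤ finrank k M := by
      have hM'fin : Module.Finite k M := Module.Finite.map _ _
      have h5 : (F j).map (LinearMap.range D).mkQ ≤ M.map (LinearMap.range D).mkQ := by
        rintro _ ⟨v, hv, rfl⟩
        have h6 : (⟨v, hv⟩ : F j) ∈ (LinearMap.range D).comap (F j).subtype ⊔ M' := by
          rw [hM'.sup_eq_top]; trivial
        obtain ⟨a, ha, b, hb, hab⟩ := Submodule.mem_sup.mp h6
        refine ⟨b, ⟨b, hb, rfl⟩, ?_⟩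
        rw [← sub_eq_zero, ← map_sub, Submodule.mkQ_apply, Submodule.Quotient.mk_eq_zero]
        have h7 : (a : V) + b = v := congrArg Subtype.val hab
        have h8 : (b : V) - v = -a := by rw [← h7]; abel
        rw [h8]
        exact neg_mem ha
      exact (Submodule.finrank_mono h5).trans (Submodule.finrank_map_le _ _)
    exact h2.trans (num_step (h1.trans (hC _)))

omit [CharZero k] in
/-- Growth zero: finite dimensional. -/
theorem Grow.finite {F : ℕ → Submodule k V} (hF : Grow 0 F) : Module.Finite k V := by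
  obtain ⟨C, hC⟩ := hF.bound
  -- the dimensions are bounded, so the filtration is stationary
  have hmono : Monotone (fun j => finrank k (F j)) := fun i j hij => by
    have := hF.fin j
    exact Submodule.finrank_mono (hF.mono hij)
  obtain ⟨N, hN⟩ : ∃ N, ∀ j, N ≤ j → finrank k (F j) = finrank k (F N) := by
    by_contra hcon
    push Not at hcon
    have : ∀ m : ℕ, ∃ j, m ≤ finrank k (F j) := by
      intro m
      induction m with
      | zero => exact ⟨0, by omega⟩
      | succ m ih =>
        obtain ⟨j, hj⟩ := ih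
        obtain ⟨j', hj', hne⟩ := hcon j
        have := hmono hj'
        exact ⟨j', by simp only at this; omega⟩
    obtain ⟨j, hj⟩ := this (C + 1)
    have := hC j
    simp only [pow_zero, mul_one] at this
    omega
  have htop : F N = ⊤ := by
    rw [eq_top_iff]
    intro v _
    obtain ⟨j, hj⟩ := hF.exh v
    have h1 : v ∈ F (max N j) := hF.mono (le_max_right _ _) hj
    have := hF.fin (max N j)
    have h2 : F N = F (max N j) := Submodule.eq_of_le_of_finrank_eq (hF.mono (le_max_left _ _))
      (hN _ (le_max_left _ _)).symm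
    rw [h2]
    exact h1
  have := hF.fin N
  rw [htop] at this
  exact Module.Finite.equiv (Submodule.topEquiv (R := k) (M := V))

end K576.Weyl
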